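import Mathlib
import Groth.Prelude.Def_DCoh4
import Groth.Agent.Lib.Helper7.QB7
import Groth.Agent.Lib.Helper7.QB14
import Groth.Agent.Lib.Lead.MV.QCDescent
import Groth.Agent.H4.FlatPull1
import Groth.Agent.H4.Perf1
import Groth.Agent.H4.TilD4
import Groth.Agent.H4.TilD9

/-! # fpqc descent of perfectness (S1056)

`E ∈ D(O_X)` is perfect iff `Lf^*E` is, for `f` flat, surjective and quasi-compact.  No
quasi-coherence assumption on `E` is needed: if `Lf^*E` is perfect it has quasi-coherent
cohomology, `H^i(Lf^*E) = f^*H^i(E)` as `f` is flat, and quasi-coherence descends along `f`. -/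

set_option autoImplicit false
universe u
open CategoryTheory Limits Opposite Pretriangulated AlgebraicGeometry TopologicalSpace

namespace Groth.Agent.LD.PerfDesc

open DerivedCategory Groth.Agent.Helper7.QB1 Groth.Agent.Helper7.QB2 Groth.Agent.Helper7.QB3
open Groth.Agent.H4.PSch1 Groth.Agent.H4.PSch2 Groth.Agent.H4.PSch3 Groth.Agent.H4.PSch5
open Groth.Agent.LD.QC Groth.Agent.H4.LDS14 Groth.Agent.H4.LDS17
open Groth.Agent.H4.TilD10 Groth.Agent.H4.TilD11 Groth.Agent.H4.PCS7 Groth.Agent.H4.FAmp5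

attribute [local instance] HasDerivedCategory.standard

section Ring

/-- **Descent of perfectness** along a finite jointly faithfully flat family of ring maps. -/
theorem isPerfect_of_jff {A : Type u} [CommRing A] {n : ℕ} {B : Fin n → Type u}
    [∀ i, CommRing (B i)] {φ : ∀ i, A →+* B i} [∀ i, DRing.HasLBaseChange (φ i)]
    (hφ : Groth.Agent.H4.FlatFam.JFF φ) (K : Dual.D A)
    (h : ∀ i, DRing.IsPerfect (B i) ((DRing.LBaseChange (φ i)).obj K)) :
    DRing.IsPerfect A K := by
  have h1 : DRing.IsPseudoCoherent' A K :=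
    hφ.detects.isPC' K (fun i => Groth.Agent.H4.Perf.isPC'_of_isPerfect (h i))
  choose a b hab using fun i => Groth.Agent.H4.Perf.hasTorAmp_of_isPerfect (h i)
  have ha : ∀ i, -(∑ j, |a j|) ≤ a i := by
    intro i
    have h2 : |a i| ≤ ∑ j, |a j| :=
      Finset.single_le_sum (f := fun j => |a j|) (fun j _ => abs_nonneg (a j)) (Finset.mem_univ i)
    have h3 := neg_abs_le (a i)
    linarith
  have hb : ∀ i, b i ≤ ∑ j, |b j| := by
    intro i
    have h2 : |b i| ≤ ∑ j, |b j| :=
      Finset.single_le_sum (f := fun j => |b j|) (fun j _ => abs_nonneg (b j)) (Finset.mem_univ i)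
    have h3 := le_abs_self (b i)
    linarith
  have ht : DRing.HasTorAmplitudeIn A (-(∑ j, |a j|)) (∑ j, |b j|) K :=
    hφ.hasTorAmp K _ _ (fun i => Groth.Agent.H4.TorAmp.hasTorAmp_mono (ha i) (hb i) (hab i))
  exact Groth.Agent.H4.Perf.isPerfect_of_isPC'_of_hasTorAmp h1 ht

end Ring

section Flat

variable {X Y : Scheme.{u}} (f : X ⟶ Y)

/-- termwise pullback along a flat morphism preserves quasi-isomorphisms. -/
theorem isInvertedBy_pullKh [Flat f] :
    (HomotopyCategory.quasiIso Y.Modules (ComplexShape.up ℤ)).IsInvertedBy (DCoh.pullKh f) := by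
  haveI : PreservesFiniteLimits (Scheme.Modules.pullback f) :=
    Groth.Agent.H4.FlatPull1.preservesFiniteLimits_pullback_of_flat f
  intro A B φ hφ
  obtain ⟨A⟩ := A
  obtain ⟨B⟩ := B
  obtain ⟨g, rfl⟩ := (HomotopyCategory.quotient _ _).map_surjective φ
  haveI : QuasiIso g := (HomotopyCategory.quotient_map_mem_quasiIso_iff g).1 hφ
  haveI : (Scheme.Modules.pullback f).PreservesHomology :=
    Functor.preservesHomologyOfExact _
  change IsIso (DerivedCategory.Q.map
    (((Scheme.Modules.pullback f).mapHomologicalComplex (ComplexShape.up ℤ)).map g))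
  infer_instance

/-- for flat `f`, `Lf^*` is computed by termwise pullback on every complex. -/
theorem lpull_iso_of_flat [Flat f] [DCoh.HasLpull f] (K : CochainComplex Y.Modules ℤ) :
    Nonempty ((DCoh.Lpull f).obj (DerivedCategory.Q.obj K) ≅
      DerivedCategory.Q.obj
        (((Scheme.Modules.pullback f).mapHomologicalComplex (ComplexShape.up ℤ)).obj K)) := by
  have h := Functor.isIso_of_isLeftDerivedFunctor_of_inverts (L := DerivedCategory.Qh)
    (DCoh.Lpull f)
    ((DCoh.pullKh f).totalLeftDerivedCounit DerivedCategory.Qh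
      (HomotopyCategory.quasiIso Y.Modules (ComplexShape.up ℤ)))
    (isInvertedBy_pullKh f)
  exact ⟨(asIso ((DCoh.pullKh f).totalLeftDerivedCounit DerivedCategory.Qh
      (HomotopyCategory.quasiIso Y.Modules (ComplexShape.up ℤ)))).app
        ((HomotopyCategory.quotient _ _).obj K)⟩

/-- for flat `f`, the cohomology sheaves of `Lf^*E` are the pullbacks of those of `E`. -/
theorem nonempty_HD_lpull_iso [Flat f] [DCoh.HasLpull f] (E : DCoh.D Y) (n : ℤ) :
    Nonempty (DCoh.HD ((DCoh.Lpull f).obj E) n ≅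
      (Scheme.Modules.pullback f).obj (DCoh.HD E n)) := by
  haveI : PreservesFiniteLimits (Scheme.Modules.pullback f) :=
    Groth.Agent.H4.FlatPull1.preservesFiniteLimits_pullback_of_flat f
  haveI : PreservesFiniteColimits (Scheme.Modules.pullback f) := inferInstance
  obtain ⟨i1⟩ := lpull_iso_of_flat f (Q.objPreimage E)
  exact ⟨(homologyFunctor X.Modules n).mapIso
      ((DCoh.Lpull f).mapIso (Q.objObjPreimageIso E).symm ≪≫ i1 ≪≫
        ((Scheme.Modules.pullback f).mapDerivedCategoryFactors.app (Q.objPreimage E)).symm) ≪≫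
    (Groth.Agent.H4.TilD9.mapDerivedCategoryHomologyIso (Scheme.Modules.pullback f) n).app
      (Q.obj (Q.objPreimage E)) ≪≫
    (Scheme.Modules.pullback f).mapIso
      ((homologyFunctor Y.Modules n).mapIso (Q.objObjPreimageIso E))⟩

/-- quasi-coherence of the cohomology sheaves descends along a flat surjective quasi-compact
morphism. -/
theorem isQCohD_of_lpull [Flat f] [Surjective f] [QuasiCompact f] [DCoh.HasLpull f]
    (E : DCoh.D Y) (h : DCoh.IsQCohD ((DCoh.Lpull f).obj E)) : DCoh.IsQCohD E := by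
  intro n
  obtain ⟨e⟩ := nonempty_HD_lpull_iso f E n
  exact Groth.Agent.LD.QCDescent.qc_of_qc_pullback f _ (Groth.Agent.LD.QC.qc_of_iso e (h n))

end Flat

section Main

/-- perfectness restricts along open immersions. -/
theorem isPerfect_RD {U X : Scheme.{u}} (j : U ⟶ X) [IsOpenImmersion j] (K : DCoh.D X)
    (h : DCoh.IsPerfect K) : DCoh.IsPerfect ((RD j).obj K) := by
  haveI := hasLpull j
  rw [isPerfect_iff_perfAt] at h ⊢
  intro y
  exact PerfAt.of_iso ((lpullIsoRD j).app K) y (perfAt_lpull j K y (h (j.base y)))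

theorem s1056 {X' X : Scheme.{u}} (f : X' ⟶ X) [Flat f] [Surjective f] [QuasiCompact f]
    [DCoh.HasLpull f] (E : DCoh.D X) :
    DCoh.IsPerfect E ↔ DCoh.IsPerfect ((DCoh.Lpull f).obj E) := by
  constructor
  · intro h
    rw [isPerfect_iff_perfAt] at h ⊢
    intro x'
    exact perfAt_lpull f E x' (h (f.base x'))
  · intro h
    have hE : DCoh.IsQCohD E :=
      isQCohD_of_lpull f E (Groth.Agent.Helper7.QB14.isQCohD_of_isPerfect _ h)
    rw [isPerfect_iff_perfAt]
    intro x
    obtain ⟨V, hV, hxV, -⟩ :=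
      exists_isAffineOpen_mem_and_subset (x := x) (U := (⊤ : X.Opens)) trivial
    have hx : x ∈ Set.range hV.fromSpec := by
      rw [hV.range_fromSpec]
      exact hxV
    obtain ⟨x₀, rfl⟩ := hx
    refine PerfAt.of_restrict hV.fromSpec E x₀ ((isPerfect_iff_perfAt _).1 ?_ x₀)
    haveI : PreservesFiniteLimits (tilde.functor (CommRingCat.of Γ(X, V))) :=
      Groth.Agent.H5.AG.tilde_preservesFiniteLimits _
    obtain ⟨M, ⟨eM⟩⟩ := ((s0997 (CommRingCat.of Γ(X, V))).2.2 _).1 (isQCohD_RD hV.fromSpec E hE)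
    refine isPerfect_of_iso eM ((Groth.Agent.H4.TilD4.S1105 Γ(X, V) M).2 ?_)
    -- finite affine cover of `f⁻¹V`
    have hc : IsCompact ((f ⁻¹ᵁ V : X'.Opens) : Set X') := f.isCompact_preimage hV.isCompact
    obtain ⟨s, hs, hsU⟩ := isCompact_iff_finite_and_eq_biUnion_affineOpens.mp hc
    obtain ⟨n, w, -, hw⟩ := hs.fin_param
    have hle : ∀ i : Fin n, ((w i : X'.affineOpens) : X'.Opens) ≤ f ⁻¹ᵁ V := by
      intro i
      rw [hsU]
      exact le_iSup₂ (f := fun (j : X'.affineOpens) (_ : j ∈ s) => (j : X'.Opens)) (w i)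
        (hw ▸ Set.mem_range_self i)
    have hcov : ∀ x' : X', x' ∈ f ⁻¹ᵁ V → ∃ i, x' ∈ ((w i : X'.affineOpens) : X'.Opens) := by
      intro x' hx'
      rw [hsU] at hx'
      simp only [Opens.mem_iSup] at hx'
      obtain ⟨W, hWs, hx'W⟩ := hx'
      rw [← hw] at hWs
      obtain ⟨i, rfl⟩ := hWs
      exact ⟨i, hx'W⟩
    have hJ := Groth.Agent.Helper7.QB7.jff_of_cover f hV w hle hcov
    haveI : ∀ i : Fin n, DRing.HasLBaseChange (f.appLE V (w i) (hle i)).hom :=
      fun i => Groth.Agent.H4.KProj.hasLBaseChange _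
    refine isPerfect_of_jff hJ M (fun i => ?_)
    haveI : PreservesFiniteLimits (tilde.functor
        (CommRingCat.of Γ(X', ((w i : X'.affineOpens) : X'.Opens)))) :=
      Groth.Agent.H5.AG.tilde_preservesFiniteLimits _
    have sq : (w i).2.fromSpec ≫ f =
        Spec.map (CommRingCat.ofHom (f.appLE V (w i) (hle i)).hom) ≫ hV.fromSpec :=
      (IsAffineOpen.SpecMap_appLE_fromSpec f hV (w i).2 (hle i)).symm
    haveI : DCoh.HasLpull (Spec.map (CommRingCat.ofHom (f.appLE V (w i) (hle i)).hom)) :=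
      hasLpull _
    have e2 := (lpullRestrictIso f (w i).2.fromSpec hV.fromSpec
      (Spec.map (CommRingCat.ofHom (f.appLE V (w i) (hle i)).hom)) sq).app E
    obtain ⟨e⟩ := Groth.Agent.H4.LDS22.S1055 (f.appLE V (w i) (hle i)).hom
    have e3 : (RD (w i).2.fromSpec).obj ((DCoh.Lpull f).obj E) ≅
        (DCoh.tildeD (CommRingCat.of Γ(X', ((w i : X'.affineOpens) : X'.Opens)))).obj
          ((DRing.LBaseChange (f.appLE V (w i) (hle i)).hom).obj M) :=
      e2 ≪≫ (DCoh.Lpull (Spec.map (CommRingCat.ofHom (f.appLE V (w i) (hle i)).hom))).mapIso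
        eM.symm ≪≫ (e.app M).symm
    refine (Groth.Agent.H4.TilD4.S1105 _ _).1 ?_
    exact isPerfect_of_iso e3 (isPerfect_RD _ _ h)

end Main

end Groth.Agent.LD.PerfDesc
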