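import Mathlib
import Groth.Prelude.Def_DCoh4
import Groth.Agent.Lib.Helper2.DTrunc1
import Groth.Agent.Lib.Helper7.QB2
import Groth.Agent.Lib.Helper7.QB14
import Groth.Agent.Lib.Helper5.AG.TildeExact
import Groth.Agent.H4.ProjAmp
import Groth.Agent.H4.TilD4
import Groth.Agent.H4.TilD9
import Groth.Agent.H4.PSch5

/-! # Vanishing of morphisms out of perfect objects: the interval lemma and the affine case -/

set_option autoImplicit false
universe w v u
open CategoryTheory Limits Opposite Pretriangulated Triangulated AlgebraicGeometry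

namespace Groth.Agent.LD.HomVan

open DerivedCategory Groth.Agent.H2.DTrunc

section General

variable {A : Type u} [Category.{v} A] [Abelian A] [HasDerivedCategory.{w} A]

/-- **interval lemma**: if `P ∈ D^{≤ b}` has no maps to `D^{≤ a - 1}` and the cohomology of `L`
vanishes in the degrees of `[a, b]`, then `Hom(P, L) = 0`. -/
theorem interval_vanish (P : DerivedCategory A) (a b : ℤ) [P.IsLE b]
    (hZ : ∀ Y : DerivedCategory A, Y.IsLE (a - 1) → ∀ φ : P ⟶ Y, φ = 0)
    (L : DerivedCategory A)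
    (hL : ∀ i : ℤ, a ≤ i → i ≤ b → IsZero ((homologyFunctor A i).obj L))
    (φ : P ⟶ L) : φ = 0 := by
  let T := (tt.triangleLTGE (b + 1)).obj L
  have hT : T ∈ distTriang _ := tt.triangleLTGE_distinguished (b + 1) L
  have h3 : T.obj₃.IsGE (b + 1) := by dsimp [T]; infer_instance
  have h1 : T.obj₁.IsLE (b + 1 - 1) := by dsimp [T]; infer_instance
  have h0 : φ ≫ T.mor₂ = 0 := tt.zero_of_isLE_of_isGE _ b (b + 1) (by omega) inferInstance h3
  obtain ⟨ψ, hψ⟩ := Triangle.coyoneda_exact₂ T hT φ h0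
  have hle : T.obj₁.IsLE (a - 1) := by
    rw [isLE_iff]
    intro i hi
    by_cases hib : i < b + 1
    · have hiso := isIso_homology_truncLTι L (b + 1) i hib
      exact (hL i (by omega) (by omega)).of_iso (@asIso _ _ _ _ _ hiso)
    · exact isZero_of_isLE T.obj₁ (b + 1 - 1) i (by omega)
  rw [hψ, hZ _ hle ψ]
  exact zero_comp

end General

attribute [local instance] HasDerivedCategory.standard

section Affine

variable (R : CommRingCat.{u})

/-- `tilde` reflects zero objects. -/
lemma isZero_of_isZero_tilde (N : ModuleCat.{u} R) (h : IsZero ((tilde.functor R).obj N)) :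
    IsZero N := by
  rw [IsZero.iff_id_eq_zero]
  apply (tilde.fullyFaithfulFunctor (R := R)).map_injective
  rw [CategoryTheory.Functor.map_id, CategoryTheory.Functor.map_zero]
  exact (IsZero.iff_id_eq_zero _).mp h

/-- **the affine case**: a perfect object `K` on `Spec R` has an interval `[a, b]` such that
`Hom(K, L) = 0` for every `L ∈ D_QCoh` whose cohomology vanishes in the degrees of `[a, b]`. -/
theorem affine_van (K : DCoh.D (Spec (CommRingCat.of R))) (hK : DCoh.IsPerfect K) :
    ∃ a b : ℤ, a ≤ b ∧ ∀ L : DCoh.D (Spec (CommRingCat.of R)), DCoh.IsQCohD L →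
      (∀ i : ℤ, a ≤ i → i ≤ b → IsZero (DCoh.HD L i)) → ∀ φ : K ⟶ L, φ = 0 := by
  haveI : PreservesFiniteLimits (tilde.functor R) :=
    Groth.Agent.H5.AG.tilde_preservesFiniteLimits _
  obtain ⟨hfull, hfaith, hess⟩ := Groth.Agent.Helper7.QB2.s0997 R
  obtain ⟨MK, ⟨eK⟩⟩ := (hess K).mp (Groth.Agent.Helper7.QB14.isQCohD_of_isPerfect K hK)
  have hMK : DRing.IsPerfect R MK :=
    (Groth.Agent.H4.TilD4.S1105 R MK).mp (Groth.Agent.H4.PSch5.isPerfect_of_iso eK.symm hK)
  obtain ⟨E, a, b, hE, hfp, ⟨eE⟩⟩ := hMK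
  have hE' : DRing.VanishesOutside E a (max a b) := by
    intro i hi
    apply hE i
    rcases hi with hi | hi
    · exact Or.inl hi
    · exact Or.inr (lt_of_le_of_lt (le_max_right a b) hi)
  refine ⟨a, max a b, le_max_left a b, fun L hL hvan φ => ?_⟩
  obtain ⟨ML, ⟨eL⟩⟩ := (hess L).mp hL
  obtain ⟨ψ, hψ⟩ := (DCoh.tildeD R).map_surjective (eK.hom ≫ φ ≫ eL.inv)
  have hle : (DRing.toD E).IsLE (max a b) := by
    rw [isLE_iff]
    intro i hi
    exact ((HomologicalComplex.ExactAt.of_isZero (hE' i (Or.inr hi))).isZero_homology).of_iso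
      ((homologyFunctorFactors _ i).app E)
  have hML : ∀ i : ℤ, a ≤ i → i ≤ max a b →
      IsZero ((homologyFunctor (ModuleCat.{u} R) i).obj ML) := by
    intro i h1 h2
    apply isZero_of_isZero_tilde R
    have h3 : IsZero (DCoh.HD ((DCoh.tildeD R).obj ML) i) :=
      (hvan i h1 h2).of_iso ((homologyFunctor _ i).mapIso eL)
    exact h3.of_iso
      ((Groth.Agent.H4.TilD9.mapDerivedCategoryHomologyIso (tilde.functor R) i).app ML).symm
  have hψ0 : eE.hom ≫ ψ = 0 :=
    interval_vanish (DRing.toD E) a (max a b)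
      (fun Y hY χ => by
        haveI := hY
        exact Groth.Agent.H4.ProjAmp.hom_eq_zero_of_projective E a (max a b) hE'
          (fun i => (hfp i).2) Y χ)
      ML hML _
  have hψ1 : ψ = 0 := by
    rw [← cancel_epi eE.hom, hψ0, comp_zero]
  rw [hψ1, Functor.map_zero] at hψ
  have : φ = eK.inv ≫ (eK.hom ≫ φ ≫ eL.inv) ≫ eL.hom := by simp
  rw [this, ← hψ, zero_comp, comp_zero]

end Affine

end Groth.Agent.LD.HomVan
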