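import Mathlib
import Groth.Prelude.Def_DCoh4
import Groth.Agent.Lib.Lead.Perf.HomVan1
import Groth.Agent.Lib.Lead.MV.ExtZeroMV
import Groth.Agent.Lib.Lead.DAdj.MapHC
import Groth.Agent.Lib.Lead.QCQS.Induction
import Groth.Agent.Lib.Lead.Perf.PerfDesc
import Groth.Agent.Lib.Helper7.QB3

/-! # Vanishing of morphisms out of perfect objects on quasi-compact quasi-separated schemes

`QV W`: every perfect `K ∈ D(O_W)` has an interval `[a, b]` such that `Hom(K, L) = 0` for all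
`L ∈ D_QCoh(O_W)` whose cohomology sheaves vanish in the degrees of `[a, b]`.  We prove `QV` for
affine schemes (`HomVan1`), its invariance under isomorphisms, the Mayer–Vietoris step (by the
Mayer–Vietoris triangle for extension by zero), and deduce `QV X` for `X` quasi-compact and
quasi-separated. -/

set_option autoImplicit false
universe u
open CategoryTheory Limits Opposite Pretriangulated AlgebraicGeometry TopologicalSpace

namespace Groth.Agent.LD.HomVan

open DerivedCategory Groth.Agent.LD.DAdj Groth.Agent.H4.PSch2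

attribute [local instance] HasDerivedCategory.standard

/-- the vanishing property. -/
def QV (W : Scheme.{u}) : Prop :=
  ∀ K : DCoh.D W, DCoh.IsPerfect K → ∃ a b : ℤ, a ≤ b ∧ ∀ L : DCoh.D W, DCoh.IsQCohD L →
    (∀ i : ℤ, a ≤ i → i ≤ b → IsZero (DCoh.HD L i)) → ∀ φ : K ⟶ L, φ = 0

section Restrict

variable {U X : Scheme.{u}} (j : U ⟶ X) [IsOpenImmersion j]

lemma isZero_HD_RD (L : DCoh.D X) (i : ℤ) (h : IsZero (DCoh.HD L i)) :
    IsZero (DCoh.HD ((RD j).obj L) i) :=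
  ((Scheme.Modules.restrictFunctor j).map_isZero h).of_iso
    ((Groth.Agent.H4.TilD9.mapDerivedCategoryHomologyIso (Scheme.Modules.restrictFunctor j) i).app L)

end Restrict

section Iso

variable {W₁ W₂ : Scheme.{u}} (e : W₁ ≅ W₂)

/-- the adjunction (equivalence) `e.hom^* ⊣ e.inv^*` on derived categories. -/
noncomputable def adjIso : RD e.hom ⊣ RD e.inv :=
  mapDerivedCategoryAdj
    (show Scheme.Modules.restrictFunctor e.hom ⊣ Scheme.Modules.restrictFunctor e.inv from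
      (Groth.Agent.LD.ExtZeroGen.resEquiv e).toAdjunction)

lemma isIso_adjIso_unit_app (K : DCoh.D W₂) : IsIso ((adjIso e).unit.app K) := by
  have e' := DerivedCategory.Q.objObjPreimageIso K
  rw [← NatTrans.isIso_app_iff_of_iso (adjIso e).unit e']
  unfold adjIso mapDerivedCategoryAdj
  rw [Adjunction.localization_unit_app]
  haveI : IsIso ((mapHCAdj (show Scheme.Modules.restrictFunctor e.hom ⊣
      Scheme.Modules.restrictFunctor e.inv from
      (Groth.Agent.LD.ExtZeroGen.resEquiv e).toAdjunction) (ComplexShape.up ℤ)).unit.app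
      (DerivedCategory.Q.objPreimage K)) := by
    haveI : ∀ n, IsIso (((mapHCAdj (show Scheme.Modules.restrictFunctor e.hom ⊣
        Scheme.Modules.restrictFunctor e.inv from
        (Groth.Agent.LD.ExtZeroGen.resEquiv e).toAdjunction) (ComplexShape.up ℤ)).unit.app
        (DerivedCategory.Q.objPreimage K)).f n) := fun n => by
      change IsIso ((Groth.Agent.LD.ExtZeroGen.resEquiv e).toAdjunction.unit.app
        ((DerivedCategory.Q.objPreimage K).X n))
      rw [Equivalence.toAdjunction_unit]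
      infer_instance
    exact HomologicalComplex.Hom.isIso_of_components _
  infer_instance

/-- restriction along an isomorphism is faithful on derived categories. -/
lemma eq_zero_of_RD_iso_map_eq_zero {K L : DCoh.D W₂} (φ : K ⟶ L)
    (h : (RD e.hom).map φ = 0) : φ = 0 := by
  haveI := isIso_adjIso_unit_app e L
  have h1 := (adjIso e).unit.naturality φ
  simp only [Functor.id_obj, Functor.id_map, Functor.comp_obj, Functor.comp_map] at h1
  rw [h, Functor.map_zero, comp_zero] at h1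
  rw [← cancel_mono ((adjIso e).unit.app L), h1, zero_comp]

theorem QV_of_iso {W₁ W₂ : Scheme.{u}} (e : W₁ ≅ W₂) (h : QV W₁) : QV W₂ := by
  intro K hK
  obtain ⟨a, b, hab, H⟩ := h ((RD e.hom).obj K) (Groth.Agent.LD.PerfDesc.isPerfect_RD e.hom K hK)
  refine ⟨a, b, hab, fun L hL hv φ => ?_⟩
  apply eq_zero_of_RD_iso_map_eq_zero e
  exact H ((RD e.hom).obj L) (Groth.Agent.Helper7.QB3.isQCohD_RD e.hom L hL)
    (fun i h1 h2 => isZero_HD_RD e.hom L i (hv i h1 h2)) _

theorem QV_of_opensRange_eq {X : Scheme.{u}} {W₁ W₂ : Scheme.{u}} (j₁ : W₁ ⟶ X) (j₂ : W₂ ⟶ X)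
    [IsOpenImmersion j₁] [IsOpenImmersion j₂] (h : j₁.opensRange = j₂.opensRange)
    (h1 : QV W₁) : QV W₂ := by
  refine QV_of_iso (IsOpenImmersion.isoOfRangeEq j₁ j₂ ?_) h1
  have := congrArg (fun Z : X.Opens => (Z : Set X)) h
  simpa using this

end Iso

section MV

attribute [local instance] Groth.Agent.LD.ExtZeroGen.preservesFiniteLimits_extZero

variable {Y : Scheme.{u}}

/-- **Mayer–Vietoris for vanishing of `Hom`**. -/
theorem hom_eq_zero_of_mv (U V : Y.Opens) (hUV : U ⊔ V = ⊤) (K L : DCoh.D Y)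
    (hU : ∀ φ : (DCoh.restrictD U.ι).obj K ⟶ (DCoh.restrictD U.ι).obj L, φ = 0)
    (hV : ∀ φ : (DCoh.restrictD V.ι).obj K ⟶ (DCoh.restrictD V.ι).obj L, φ = 0)
    (hW : ∀ φ : ((DCoh.restrictD (U ⊓ V).ι).obj K)⟦(1 : ℤ)⟧ ⟶
      (DCoh.restrictD (U ⊓ V).ι).obj L, φ = 0)
    (φ : K ⟶ L) : φ = 0 := by
  obtain ⟨a, b, c, hT⟩ := Groth.Agent.LD.MV.exists_mv_triangle U V hUV K
  let adjU : CxOX.extZeroD U.ι ⊣ DCoh.restrictD U.ι := mapDerivedCategoryAdj (CxOX.extZeroAdj U.ι)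
  let adjV : CxOX.extZeroD V.ι ⊣ DCoh.restrictD V.ι := mapDerivedCategoryAdj (CxOX.extZeroAdj V.ι)
  let adjW : CxOX.extZeroD (U ⊓ V).ι ⊣ DCoh.restrictD (U ⊓ V).ι :=
    mapDerivedCategoryAdj (CxOX.extZeroAdj (U ⊓ V).ι)
  have zU : ∀ g : (CxOX.extZeroD U.ι).obj ((DCoh.restrictD U.ι).obj K) ⟶ L, g = 0 := fun g =>
    (adjU.homEquiv _ _).injective (by rw [hU (adjU.homEquiv _ _ g), hU (adjU.homEquiv _ _ 0)])
  have zV : ∀ g : (CxOX.extZeroD V.ι).obj ((DCoh.restrictD V.ι).obj K) ⟶ L, g = 0 := fun g =>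
    (adjV.homEquiv _ _).injective (by rw [hV (adjV.homEquiv _ _ g), hV (adjV.homEquiv _ _ 0)])
  have hb : b ≫ φ = 0 := by
    apply biprod.hom_ext'
    · rw [comp_zero]; exact zU _
    · rw [comp_zero]; exact zV _
  obtain ⟨ψ, hψ⟩ := Triangle.yoneda_exact₃ _ hT φ hb
  have hψ0 : ψ = 0 := by
    let ι1 := ((CxOX.extZeroD (U ⊓ V).ι).commShiftIso (1 : ℤ)).app
      ((DCoh.restrictD (U ⊓ V).ι).obj K)
    have h0 : ι1.hom ≫ ψ = 0 :=
      (adjW.homEquiv _ _).injective
        (by rw [hW (adjW.homEquiv _ _ (ι1.hom ≫ ψ)), hW (adjW.homEquiv _ _ 0)])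
    exact (cancel_epi ι1.hom).mp (h0.trans comp_zero.symm)
  rw [hψ, hψ0]
  exact comp_zero

theorem QV_mv (U V : Y.Opens) (hUV : U ⊔ V = ⊤) (hU : QV (U : Scheme.{u}))
    (hV : QV (V : Scheme.{u})) (hW : QV ((U ⊓ V : Y.Opens) : Scheme.{u})) : QV Y := by
  intro K hK
  obtain ⟨aU, bU, habU, HU⟩ := hU ((RD U.ι).obj K)
    (Groth.Agent.LD.PerfDesc.isPerfect_RD U.ι K hK)
  obtain ⟨aV, bV, habV, HV⟩ := hV ((RD V.ι).obj K)
    (Groth.Agent.LD.PerfDesc.isPerfect_RD V.ι K hK)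
  obtain ⟨aW, bW, habW, HW⟩ := hW (((RD (U ⊓ V).ι).obj K)⟦(1 : ℤ)⟧)
    (Groth.Agent.H4.PSch5.isPerfect_shift _ 1
      (Groth.Agent.LD.PerfDesc.isPerfect_RD (U ⊓ V).ι K hK))
  refine ⟨min aU (min aV aW), max bU (max bV bW),
    le_trans (min_le_left _ _) (le_trans habU (le_max_left _ _)), fun L hL hv φ => ?_⟩
  apply hom_eq_zero_of_mv U V hUV K L
  · intro χ
    exact HU ((RD U.ι).obj L) (Groth.Agent.Helper7.QB3.isQCohD_RD U.ι L hL)
      (fun i h1 h2 => isZero_HD_RD U.ι L i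
        (hv i (le_trans (min_le_left _ _) h1) (le_trans h2 (le_max_left _ _)))) χ
  · intro χ
    exact HV ((RD V.ι).obj L) (Groth.Agent.Helper7.QB3.isQCohD_RD V.ι L hL)
      (fun i h1 h2 => isZero_HD_RD V.ι L i
        (hv i (le_trans (le_trans (min_le_right _ _) (min_le_left _ _)) h1)
          (le_trans h2 (le_trans (le_max_left _ _) (le_max_right _ _))))) χ
  · intro χ
    exact HW ((RD (U ⊓ V).ι).obj L) (Groth.Agent.Helper7.QB3.isQCohD_RD (U ⊓ V).ι L hL)
      (fun i h1 h2 => isZero_HD_RD (U ⊓ V).ι L i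
        (hv i (le_trans (le_trans (min_le_right _ _) (min_le_right _ _)) h1)
          (le_trans h2 (le_trans (le_max_right _ _) (le_max_right _ _))))) χ

end MV

section Induction

variable {X : Scheme.{u}}

theorem QV_mv_step (O W : X.Opens) (hO : QV (O : Scheme.{u})) (hW : QV (W : Scheme.{u}))
    (hOW : QV ((O ⊓ W : X.Opens) : Scheme.{u})) : QV ((O ⊔ W : X.Opens) : Scheme.{u}) := by
  have r : ∀ Z : X.Opens, Z ≤ O ⊔ W →
      (((O ⊔ W).ι ⁻¹ᵁ Z).ι ≫ (O ⊔ W).ι).opensRange = Z.ι.opensRange := by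
    intro Z hZ
    rw [Scheme.Hom.opensRange_comp, Scheme.Opens.opensRange_ι, Scheme.Opens.opensRange_ι,
      Scheme.Hom.image_preimage_eq_opensRange_inf, Scheme.Opens.opensRange_ι]
    exact inf_eq_right.mpr hZ
  have hcov : (O ⊔ W).ι ⁻¹ᵁ O ⊔ (O ⊔ W).ι ⁻¹ᵁ W = ⊤ := by
    ext x
    simp only [Opens.coe_sup, Set.mem_union, SetLike.mem_coe, Opens.coe_top, Set.mem_univ,
      iff_true]
    exact x.2
  have aux : ∀ Z : X.Opens, Z ≤ O ⊔ W → QV (Z : Scheme.{u}) →
      QV (((O ⊔ W).ι ⁻¹ᵁ Z : (O ⊔ W).toScheme.Opens) : Scheme.{u}) := by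
    intro Z hZ h
    exact QV_of_opensRange_eq Z.ι (((O ⊔ W).ι ⁻¹ᵁ Z).ι ≫ (O ⊔ W).ι) (r Z hZ).symm h
  exact QV_mv ((O ⊔ W).ι ⁻¹ᵁ O) ((O ⊔ W).ι ⁻¹ᵁ W) hcov (aux O le_sup_left hO)
    (aux W le_sup_right hW) (aux (O ⊓ W) (le_trans inf_le_left le_sup_left) hOW)

theorem QV_of_isAffineOpen (O : X.Opens) (hO : IsAffineOpen O) : QV (O : Scheme.{u}) := by
  have e : (O : Scheme.{u}) ≅ Spec (CommRingCat.of Γ(X, O)) := hO.isoSpec
  exact QV_of_iso e.symm (fun K hK => affine_van Γ(X, O) K hK)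

/-- **the vanishing property holds on quasi-compact quasi-separated schemes.** -/
theorem QV_of_qcqs [CompactSpace X] [QuasiSeparatedSpace X] : QV X := by
  have h := Groth.Agent.LD.QCQS.mv_induction (X := X) (fun O : X.Opens => QV (O : Scheme.{u}))
    (fun O W => QV_mv_step O W) (fun O hO => QV_of_isAffineOpen O hO) ⊤
    (by simpa using isCompact_univ) (by simpa using isQuasiSeparated_univ)
  exact QV_of_iso X.topIso h

end Induction

end Groth.Agent.LD.HomVan
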