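import Mathlib
import Groth.Prelude.Def_DCoh4
import Groth.Agent.Lib.Lead.Perf.HomVan2
import Groth.Agent.Lib.Lead.QCQS.Base

/-! # Consequences of the vanishing property: S1011 and S1022 -/

set_option autoImplicit false
universe u
open CategoryTheory Limits Opposite Pretriangulated Triangulated AlgebraicGeometry TopologicalSpace

namespace Groth.Agent.LD.HomVan

open DerivedCategory Groth.Agent.H2.DTrunc

attribute [local instance] HasDerivedCategory.standard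

variable {X : Scheme.{u}}

/-- cohomology of a shift. -/
noncomputable def HDshiftIso (L : DCoh.D X) (n i : ℤ) : DCoh.HD (L⟦n⟧) i ≅ DCoh.HD L (n + i) :=
  ((homologyFunctor X.Modules 0).shiftIso n i (n + i) rfl).app L

lemma isQCohD_shift (L : DCoh.D X) (hL : DCoh.IsQCohD L) (n : ℤ) : DCoh.IsQCohD (L⟦n⟧) :=
  fun i => Groth.Agent.LD.QC.qc_of_iso (HDshiftIso L n i).symm (hL (n + i))

/-- **S1011**. -/
theorem s1011 (X : Scheme.{u}) [CompactSpace ↥X] [QuasiSeparatedSpace ↥X]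
    (K : DCoh.D X) (hK : DCoh.IsPerfect K) :
    (∃ a b : ℤ, a ≤ b ∧ ∀ L : DCoh.D X, DCoh.IsQCohD L →
      (∀ i : ℤ, a ≤ i → i ≤ b → IsZero (DCoh.HD L i)) → ∀ φ : K ⟶ L, φ = 0) ∧
    ∀ (L : DCoh.D X) (a' b' : ℤ), DCoh.IsQCohD L → L.IsGE a' → L.IsLE b' →
      {n : ℤ | ∃ φ : K ⟶ L⟦n⟧, φ ≠ 0}.Finite := by
  refine ⟨QV_of_qcqs K hK, fun L a' b' hL hGE hLE => ?_⟩
  obtain ⟨a, b, hab, H⟩ := QV_of_qcqs K hK
  apply Set.Finite.subset (Set.finite_Icc (a' - b) (b' - a))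
  rintro n ⟨φ, hφ⟩
  by_contra hn
  apply hφ
  rw [Set.mem_Icc, not_and_or, not_le, not_le] at hn
  apply H (L⟦n⟧) (isQCohD_shift L hL n)
  intro i h1 h2
  refine IsZero.of_iso ?_ (HDshiftIso L n i)
  rcases hn with hn | hn
  · haveI := hGE
    exact isZero_of_isGE L a' (n + i) (by omega)
  · haveI := hLE
    exact isZero_of_isLE L b' (n + i) (by omega)

/-- morphisms `P[-i] ⟶ Z` vanish for `i` large when `Z ∈ D_QCoh` is bounded above. -/
lemma hom_shift_neg_eq_zero (P : DCoh.D X) (p q : ℤ)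
    (H : ∀ L : DCoh.D X, DCoh.IsQCohD L →
      (∀ i : ℤ, p ≤ i → i ≤ q → IsZero (DCoh.HD L i)) → ∀ φ : P ⟶ L, φ = 0)
    (Z : DCoh.D X) (hZ : DCoh.IsQCohD Z) (c : ℤ) (hc : Z.IsLE c) (i : ℤ) (hi : c - p < i)
    (ξ : P⟦-i⟧ ⟶ Z) : ξ = 0 := by
  let e : P ≅ (P⟦-i⟧)⟦i⟧ := ((shiftFunctorCompIsoId (DCoh.D X) (-i) i (by omega)).symm.app P)
  have h0 : e.hom ≫ ξ⟦i⟧' = 0 := by
    apply H (Z⟦i⟧) (isQCohD_shift Z hZ i)
    intro j h1 _
    refine IsZero.of_iso ?_ (HDshiftIso Z i j)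
    haveI := hc
    exact isZero_of_isLE Z c (i + j) (by omega)
  have h1 : ξ⟦i⟧' = 0 := (cancel_epi e.hom).mp (h0.trans comp_zero.symm)
  apply (shiftFunctor (DCoh.D X) i).map_injective
  rw [h1, Functor.map_zero]

/-- the truncation `τ_{<a} E` of an object of `D_QCoh` lies in `D_QCoh`. -/
lemma isQCohD_truncLT (E : DCoh.D X) (hE : DCoh.IsQCohD E) (a : ℤ) :
    DCoh.IsQCohD ((tt.truncLT a).obj E) := by
  intro j
  by_cases hj : j < a
  · have hiso := isIso_homology_truncLTι E a j hj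
    exact Groth.Agent.LD.QC.qc_of_iso (@asIso _ _ _ _ _ hiso).symm (hE j)
  · exact Groth.Agent.LD.QCQS.qc_of_isZero
      (isZero_of_isLE ((tt.truncLT a).obj E) (a - 1) j (by omega)) _ (hE 0)

/-- **S1022**. -/
theorem s1022 (X : Scheme.{u}) [CompactSpace ↥X] [QuasiSeparatedSpace ↥X]
    (P : DCoh.D X) (hP : DCoh.IsPerfect P) (E : DCoh.D X) (hE : DCoh.IsQCohD E) (a : ℤ) :
    (∃ N : ℤ, ∀ i : ℤ, N ≤ i → ∀ φ : P⟦-i⟧ ⟶ E, φ = 0) ↔
    (∃ N : ℤ, ∀ i : ℤ, N ≤ i → ∀ φ : P⟦-i⟧ ⟶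
      ((DerivedCategory.TStructure.t :
        CategoryTheory.Triangulated.TStructure (DCoh.D X)).truncGE a).obj E, φ = 0) := by
  obtain ⟨p, q, hpq, H⟩ := QV_of_qcqs P hP
  let T := (tt.triangleLTGE a).obj E
  have hT : T ∈ distTriang _ := tt.triangleLTGE_distinguished a E
  have hZ1 : DCoh.IsQCohD T.obj₁ := isQCohD_truncLT E hE a
  have hle1 : T.obj₁.IsLE (a - 1) := by dsimp [T]; infer_instance
  have hle2 : (T.obj₁⟦(1 : ℤ)⟧).IsLE (a - 1 - 1) :=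
    (tt.isLE_shift T.obj₁ (a - 1) 1 (a - 1 - 1) (by omega))
  constructor
  · rintro ⟨N, hN⟩
    refine ⟨max N (a - 1 - 1 - p + 1), fun i hi φ => ?_⟩
    have h3 : φ ≫ T.mor₃ = 0 :=
      hom_shift_neg_eq_zero P p q H _ (isQCohD_shift _ hZ1 1) (a - 1 - 1) hle2 i
        (by have := le_trans (le_max_right _ _) hi; omega) _
    obtain ⟨ψ, hψ⟩ := Triangle.coyoneda_exact₃ T hT φ h3
    rw [hψ, hN i (le_trans (le_max_left _ _) hi) ψ]
    exact zero_comp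
  · rintro ⟨N, hN⟩
    refine ⟨max N (a - 1 - p + 1), fun i hi φ => ?_⟩
    have h2 : φ ≫ T.mor₂ = 0 := hN i (le_trans (le_max_left _ _) hi) _
    obtain ⟨ψ, hψ⟩ := Triangle.coyoneda_exact₂ T hT φ h2
    rw [hψ, hom_shift_neg_eq_zero P p q H _ hZ1 (a - 1) hle1 i
      (by have := le_trans (le_max_right _ _) hi; omega) ψ]
    exact zero_comp

end Groth.Agent.LD.HomVan
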