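import Mathlib
import Groth.Prelude.Def_DCoh4
import Groth.Agent.Lib.Lead.Perf.HomVan3
import Groth.Agent.Lib.Lead.GS.TildeLF
import Groth.Agent.Lib.Lead.QC.LocFree
import Groth.Agent.H4.DComp1
import Groth.Agent.H4.PSch1

/-! # Uniform vanishing of `Extⁿ(F, E)` for finite locally free `F` (S1010) -/

set_option autoImplicit false
universe u
open CategoryTheory Limits Opposite Pretriangulated Triangulated AlgebraicGeometry TopologicalSpace

namespace Groth.Agent.LD.HomVan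

open DerivedCategory Groth.Agent.LD.DAdj Groth.Agent.H4.PSch2 Groth.Agent.H2.DTrunc

attribute [local instance] HasDerivedCategory.standard

/-- a general Mayer–Vietoris induction principle for properties of schemes. -/
theorem scheme_mv_induction (Q : Scheme.{u} → Prop)
    (hiso : ∀ (W₁ W₂ : Scheme.{u}), (W₁ ≅ W₂) → Q W₁ → Q W₂)
    (hmv : ∀ (Y : Scheme.{u}) (U V : Y.Opens), U ⊔ V = ⊤ → Q (U : Scheme.{u}) →
      Q (V : Scheme.{u}) → Q ((U ⊓ V : Y.Opens) : Scheme.{u}) → Q Y)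
    (haff : ∀ R : CommRingCat.{u}, Q (Spec (CommRingCat.of R)))
    (X : Scheme.{u}) [CompactSpace X] [QuasiSeparatedSpace X] : Q X := by
  have hrange : ∀ {W₁ W₂ : Scheme.{u}} (j₁ : W₁ ⟶ X) (j₂ : W₂ ⟶ X) [IsOpenImmersion j₁]
      [IsOpenImmersion j₂], j₁.opensRange = j₂.opensRange → Q W₁ → Q W₂ := by
    intro W₁ W₂ j₁ j₂ _ _ h h1
    refine hiso _ _ (IsOpenImmersion.isoOfRangeEq j₁ j₂ ?_) h1
    have := congrArg (fun Z : X.Opens => (Z : Set X)) h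
    simpa using this
  have hstep : ∀ O W : X.Opens, Q (O : Scheme.{u}) → Q (W : Scheme.{u}) →
      Q ((O ⊓ W : X.Opens) : Scheme.{u}) → Q ((O ⊔ W : X.Opens) : Scheme.{u}) := by
    intro O W hO hW hOW
    have r : ∀ Z : X.Opens, Z ≤ O ⊔ W →
        (((O ⊔ W).ι ⁻¹ᵁ Z).ι ≫ (O ⊔ W).ι).opensRange = Z.ι.opensRange := by
      intro Z hZ
      rw [Scheme.Hom.opensRange_comp, Scheme.Opens.opensRange_ι, Scheme.Opens.opensRange_ι,
        Scheme.Hom.image_preimage_eq_opensRange_inf, Scheme.Opens.opensRange_ι]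
      exact inf_eq_right.mpr hZ
    have hcov : (O ⊔ W).ι ⁻¹ᵁ O ⊔ (O ⊔ W).ι ⁻¹ᵁ W = ⊤ := by
      ext x
      simp only [Opens.coe_sup, Set.mem_union, SetLike.mem_coe, Opens.coe_top, Set.mem_univ,
        iff_true]
      exact x.2
    have aux : ∀ Z : X.Opens, Z ≤ O ⊔ W → Q (Z : Scheme.{u}) →
        Q (((O ⊔ W).ι ⁻¹ᵁ Z : (O ⊔ W).toScheme.Opens) : Scheme.{u}) := by
      intro Z hZ h
      exact hrange Z.ι (((O ⊔ W).ι ⁻¹ᵁ Z).ι ≫ (O ⊔ W).ι) (r Z hZ).symm h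
    exact hmv _ ((O ⊔ W).ι ⁻¹ᵁ O) ((O ⊔ W).ι ⁻¹ᵁ W) hcov (aux O le_sup_left hO)
      (aux W le_sup_right hW) (aux (O ⊓ W) (le_trans inf_le_left le_sup_left) hOW)
  have haffO : ∀ O : X.Opens, IsAffineOpen O → Q (O : Scheme.{u}) := by
    intro O hO
    have e : (O : Scheme.{u}) ≅ Spec (CommRingCat.of Γ(X, O)) := hO.isoSpec
    exact hiso _ _ e.symm (haff Γ(X, O))
  have h := Groth.Agent.LD.QCQS.mv_induction (X := X) (fun O : X.Opens => Q (O : Scheme.{u}))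
    hstep haffO ⊤ (by simpa using isCompact_univ) (by simpa using isQuasiSeparated_univ)
  exact hiso _ _ X.topIso h

/-- the uniform vanishing property for finite locally free modules. -/
def QF (W : Scheme.{u}) : Prop :=
  ∃ d : ℕ, ∀ F : W.Modules, FlatMod.IsFinLocFree F → ∀ L : DCoh.D W, DCoh.IsQCohD L →
    (∀ i : ℤ, -(d : ℤ) ≤ i → i ≤ 0 → IsZero (DCoh.HD L i)) → ∀ φ : DCoh.inD W F ⟶ L, φ = 0

/-- restriction of a module placed in degree `0`. -/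
noncomputable def RDinD {U X : Scheme.{u}} (j : U ⟶ X) [IsOpenImmersion j] (F : X.Modules) :
    (RD j).obj (DCoh.inD X F) ≅ DCoh.inD U (F.restrict j) :=
  ((Scheme.Modules.restrictFunctor j).mapDerivedCategorySingleFunctor 0).app F

theorem QF_affine (R : CommRingCat.{u}) : QF (Spec (CommRingCat.of R)) := by
  refine ⟨0, fun F hF L hL hv φ => ?_⟩
  haveI : PreservesFiniteLimits (tilde.functor R) :=
    Groth.Agent.H5.AG.tilde_preservesFiniteLimits _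
  obtain ⟨hfull, hfaith, hess⟩ := Groth.Agent.Helper7.QB2.s0997 R
  haveI : F.IsQuasicoherent := Groth.Agent.LD.QC.qc_of_isFinLocFree F hF
  let M₀ : ModuleCat.{u} R := (modulesSpecToSheaf.obj F).presheaf.obj (.op ⊤)
  haveI hiso : IsIso F.fromTildeΓ :=
    Scheme.Modules.isIso_fromTildeΓ_of_isQuasicoherent (R := R) F
  let e : tilde M₀ ≅ F := asIso F.fromTildeΓ
  have hM₀ : Module.Finite R M₀ ∧ Module.Projective R M₀ :=
    (Groth.Agent.LD.GS.isFinLocFree_tilde_iff M₀).mp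
      (Groth.Agent.LD.QC.isFinLocFree_of_iso e.symm hF)
  haveI := hM₀.2
  let eK : (DCoh.tildeD R).obj ((singleFunctor (ModuleCat.{u} R) 0).obj M₀) ≅
      DCoh.inD (Spec (CommRingCat.of R)) F :=
    ((tilde.functor R).mapDerivedCategorySingleFunctor 0).app M₀ ≪≫
      (singleFunctor (Spec (CommRingCat.of R)).Modules 0).mapIso e
  obtain ⟨ML, ⟨eL⟩⟩ := (hess L).mp hL
  obtain ⟨ψ, hψ⟩ := (DCoh.tildeD R).map_surjective (eK.hom ≫ φ ≫ eL.inv)
  have hML : ∀ i : ℤ, (0 : ℤ) ≤ i → i ≤ 0 →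
      IsZero ((homologyFunctor (ModuleCat.{u} R) i).obj ML) := by
    intro i h1 h2
    apply isZero_of_isZero_tilde R
    have h3 : IsZero (DCoh.HD ((DCoh.tildeD R).obj ML) i) :=
      (hv i (by simpa using h1) h2).of_iso ((homologyFunctor _ i).mapIso eL)
    exact h3.of_iso
      ((Groth.Agent.H4.TilD9.mapDerivedCategoryHomologyIso (tilde.functor R) i).app ML).symm
  have hψ0 : ψ = 0 :=
    interval_vanish ((singleFunctor (ModuleCat.{u} R) 0).obj M₀) 0 0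
      (fun Y hY χ => by
        haveI := hY
        exact Groth.Agent.H4.DComp.hom_single_projective_eq_zero M₀ 0 Y χ)
      ML hML ψ
  rw [hψ0, Functor.map_zero] at hψ
  have : φ = eK.inv ≫ (eK.hom ≫ φ ≫ eL.inv) ≫ eL.hom := by simp
  rw [this, ← hψ, zero_comp, comp_zero]

theorem QF_of_iso {W₁ W₂ : Scheme.{u}} (e : W₁ ≅ W₂) (h : QF W₁) : QF W₂ := by
  obtain ⟨d, H⟩ := h
  refine ⟨d, fun F hF L hL hv φ => ?_⟩
  apply eq_zero_of_RD_iso_map_eq_zero e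
  have h0 := H (F.restrict e.hom) (Groth.Agent.H4.PSch1.isFinLocFree_restrict e.hom F hF)
    ((RD e.hom).obj L) (Groth.Agent.Helper7.QB3.isQCohD_RD e.hom L hL)
    (fun i h1 h2 => isZero_HD_RD e.hom L i (hv i h1 h2))
    ((RDinD e.hom F).inv ≫ (RD e.hom).map φ)
  exact (cancel_epi (RDinD e.hom F).inv).mp (h0.trans comp_zero.symm)

/-- moving a shift to the other side. -/
lemma eq_zero_of_shift_one {X : Scheme.{u}} (A B : DCoh.D X)
    (h : ∀ ξ : A ⟶ B⟦(-1 : ℤ)⟧, ξ = 0) (χ : A⟦(1 : ℤ)⟧ ⟶ B) : χ = 0 := by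
  let e : A ≅ (A⟦(1 : ℤ)⟧)⟦(-1 : ℤ)⟧ :=
    ((shiftFunctorCompIsoId (DCoh.D X) (1 : ℤ) (-1) (by omega)).symm.app A)
  have h0 : e.hom ≫ χ⟦(-1 : ℤ)⟧' = 0 := h _
  have h1 : χ⟦(-1 : ℤ)⟧' = 0 := (cancel_epi e.hom).mp (h0.trans comp_zero.symm)
  apply (shiftFunctor (DCoh.D X) (-1 : ℤ)).map_injective
  rw [h1, Functor.map_zero]

theorem QF_mv {Y : Scheme.{u}} (U V : Y.Opens) (hUV : U ⊔ V = ⊤) (hU : QF (U : Scheme.{u}))
    (hV : QF (V : Scheme.{u})) (hW : QF ((U ⊓ V : Y.Opens) : Scheme.{u})) : QF Y := by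
  obtain ⟨dU, HU⟩ := hU
  obtain ⟨dV, HV⟩ := hV
  obtain ⟨dW, HW⟩ := hW
  refine ⟨max dU (max dV (dW + 1)), fun F hF L hL hv φ => ?_⟩
  have hdU : (dU : ℤ) ≤ (max dU (max dV (dW + 1)) : ℕ) := by exact_mod_cast le_max_left _ _
  have hdV : (dV : ℤ) ≤ (max dU (max dV (dW + 1)) : ℕ) := by
    exact_mod_cast le_trans (le_max_left _ _) (le_max_right _ _)
  have hdW : ((dW : ℤ) + 1) ≤ (max dU (max dV (dW + 1)) : ℕ) := by
    exact_mod_cast le_trans (le_max_right _ _) (le_max_right _ _)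
  apply hom_eq_zero_of_mv U V hUV _ L
  · intro χ
    have h0 := HU (F.restrict U.ι) (Groth.Agent.H4.PSch1.isFinLocFree_restrict U.ι F hF)
      ((RD U.ι).obj L) (Groth.Agent.Helper7.QB3.isQCohD_RD U.ι L hL)
      (fun i h1 h2 => isZero_HD_RD U.ι L i (hv i (by omega) h2))
      ((RDinD U.ι F).inv ≫ χ)
    exact (cancel_epi (RDinD U.ι F).inv).mp (h0.trans comp_zero.symm)
  · intro χ
    have h0 := HV (F.restrict V.ι) (Groth.Agent.H4.PSch1.isFinLocFree_restrict V.ι F hF)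
      ((RD V.ι).obj L) (Groth.Agent.Helper7.QB3.isQCohD_RD V.ι L hL)
      (fun i h1 h2 => isZero_HD_RD V.ι L i (hv i (by omega) h2))
      ((RDinD V.ι F).inv ≫ χ)
    exact (cancel_epi (RDinD V.ι F).inv).mp (h0.trans comp_zero.symm)
  · intro χ
    apply eq_zero_of_shift_one
    intro ξ
    have h0 := HW (F.restrict (U ⊓ V).ι)
      (Groth.Agent.H4.PSch1.isFinLocFree_restrict (U ⊓ V).ι F hF)
      (((RD (U ⊓ V).ι).obj L)⟦(-1 : ℤ)⟧)
      (isQCohD_shift _ (Groth.Agent.Helper7.QB3.isQCohD_RD (U ⊓ V).ι L hL) (-1))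
      (fun i h1 h2 => (isZero_HD_RD (U ⊓ V).ι L (-1 + i) (hv (-1 + i) (by omega) (by omega))).of_iso
        (HDshiftIso ((RD (U ⊓ V).ι).obj L) (-1) i))
      ((RDinD (U ⊓ V).ι F).inv ≫ ξ)
    exact (cancel_epi (RDinD (U ⊓ V).ι F).inv).mp (h0.trans comp_zero.symm)

theorem QF_of_qcqs (X : Scheme.{u}) [CompactSpace X] [QuasiSeparatedSpace X] : QF X :=
  scheme_mv_induction QF (fun _ _ e h => QF_of_iso e h)
    (fun _ U V hUV hU hV hW => QF_mv U V hUV hU hV hW) QF_affine X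

/-- **S1010**. -/
theorem s1010 (X : Scheme.{u}) [CompactSpace ↥X] [QuasiSeparatedSpace ↥X]
    (E : DCoh.D X) (hE : DCoh.IsQCohD E) (a b : ℤ) [E.IsGE a] [E.IsLE b] :
    ∃ n₀ : ℤ, 0 < n₀ ∧ ∀ (F : X.Modules), FlatMod.IsFinLocFree F → ∀ n : ℤ, n₀ ≤ n →
      ∀ φ : DCoh.inD X F ⟶ E⟦n⟧, φ = 0 := by
  obtain ⟨d, H⟩ := QF_of_qcqs X
  refine ⟨max 1 (b + d + 1), lt_of_lt_of_le one_pos (le_max_left _ _), fun F hF n hn φ => ?_⟩
  have hn' : b + d + 1 ≤ n := le_trans (le_max_right _ _) hn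
  apply H F hF (E⟦n⟧) (isQCohD_shift E hE n)
  intro i h1 _
  refine IsZero.of_iso ?_ (HDshiftIso E n i)
  exact isZero_of_isLE E b (n + i) (by omega)

end Groth.Agent.LD.HomVan
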