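import Mathlib
import Groth.Prelude.Def_DCoh4
import Groth.Agent.Lib.Lead.Perf.HomVan4
import Groth.Agent.Lib.Helper1.DbCount
import Groth.Agent.H4.EV2
import Groth.Agent.H4.US7

/-! # Countability of `Hom(E, K[i])` for `E` perfect (S1099)

Ring level: for `E ∈ D(R)` perfect and `N ∈ D(R)` with countable cohomology modules, the groups
`Hom(E, N[i])` are countable (dévissage on `E`, base case `Hom(R, N[i]) = Hⁱ(N)`).
Scheme level: the property `QC W` (for `E` perfect and `K ∈ D_QCoh(O_W)` whose cohomology sheaves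
have countable sections over affine opens, `Hom(E, K[i])` is countable) holds for affine schemes,
is invariant under isomorphisms and satisfies Mayer–Vietoris (extension by zero triangle), hence
holds for quasi-compact quasi-separated schemes. -/

set_option autoImplicit false
universe u
open CategoryTheory Limits Opposite Pretriangulated Triangulated AlgebraicGeometry TopologicalSpace

namespace Groth.Agent.LD.HomVan

open DerivedCategory Groth.Agent.LD.DAdj Groth.Agent.H4.PSch2 Groth.Agent.H1.DbCount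

attribute [local instance] HasDerivedCategory.standard

section Ring

/-- **ring level**: `Hom(E, N[i])` is countable for `E` perfect and `N` with countable cohomology. -/
theorem countable_hom_perfect (R : Type u) [CommRing R] (E : Dual.D R) (hE : DRing.IsPerfect R E)
    (N : Dual.D R) (hN : ∀ j : ℤ, Countable (Dual.HD R N j)) (i : ℤ) :
    Countable (E ⟶ N⟦i⟧) := by
  let P : Dual.D R → Prop := fun X => ∀ i : ℤ, Countable (X ⟶ N⟦i⟧)
  have hP : Groth.Agent.H4.EV2.ThickPred P :=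
    { iso := fun {X Y} e hX i => by
        haveI := hX i
        exact countable_hom_of_iso e (Iso.refl _)
      shift := fun X n hX i => by
        haveI := hX (i - n)
        exact countable_hom_shift n (Iso.refl (X⟦n⟧))
          ((shiftFunctorAdd' (Dual.D R) (i - n) n i (by omega)).app N).symm
      ext₂ := fun T hT h1 h3 i => by
        haveI := h1 i
        haveI := h3 i
        exact countable_hom_of_dist₁ T hT _
      retract := fun {X Y} ι p hip hY i => by
        haveI := hY i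
        refine Function.Injective.countable (f := fun f : X ⟶ N⟦i⟧ => p ≫ f) ?_
        intro f g hfg
        have h1 : ι ≫ p ≫ f = ι ≫ p ≫ g := congrArg (fun t => ι ≫ t) hfg
        rwa [← Category.assoc, ← Category.assoc, hip, Category.id_comp, Category.id_comp] at h1 }
  have h1 : P (Dual.inD R R) := fun i => by
    obtain ⟨e⟩ := Groth.Agent.H4.US7.nonempty_HD_equiv N i
    haveI := hN i
    exact e.symm.injective.countable
  exact hP.of_isPerfect h1 hE i

end Ring

section Sections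

/-- countability of sections is invariant under isomorphisms of modules. -/
lemma countable_sections_of_iso {W : Scheme.{u}} {M N : W.Modules} (α : M ≅ N) (V : W.Opens)
    (h : Countable (N.val.obj (op V))) : Countable (M.val.obj (op V)) := by
  haveI : Countable ((SheafOfModules.evaluation W.ringCatSheaf (op V)).obj N) := h
  exact ((SheafOfModules.evaluation W.ringCatSheaf (op V)).mapIso α).toLinearEquiv.injective.countable

/-- a module whose associated sheaf has countably many global sections is countable. -/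
lemma countable_of_countable_sections_tilde (R : CommRingCat.{u}) (N : ModuleCat.{u} R)
    (h : Countable (((tilde.functor R).obj N).val.obj (op ⊤))) : Countable N := by
  haveI : Countable ((modulesSpecToSheaf.obj (tilde N)).presheaf.obj (op ⊤)) := h
  exact (tilde.isoTop N).toLinearEquiv.injective.countable

/-- all cohomology sheaves have countably many sections over affine opens. -/
def CS {W : Scheme.{u}} (K : DCoh.D W) : Prop :=
  ∀ V : W.Opens, IsAffineOpen V → ∀ i : ℤ, Countable ((DCoh.HD K i).val.obj (op V))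

lemma CS_RD {U X : Scheme.{u}} (j : U ⟶ X) [IsOpenImmersion j] (L : DCoh.D X) (hL : CS L) :
    CS ((RD j).obj L) := by
  intro V' hV' i
  have hV : IsAffineOpen (j ''ᵁ V') := hV'.image_of_isOpenImmersion j
  have h0 : Countable ((DCoh.HD L i).val.obj (op (j ''ᵁ V'))) := hL _ hV i
  have hc : Countable (((Scheme.Modules.restrictFunctor j).obj (DCoh.HD L i)).val.obj (op V')) := h0
  exact countable_sections_of_iso
    ((Groth.Agent.H4.TilD9.mapDerivedCategoryHomologyIso
      (Scheme.Modules.restrictFunctor j) i).app L) V' hc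

end Sections

/-- the countability property. -/
def QC (W : Scheme.{u}) : Prop :=
  ∀ (E K : DCoh.D W), DCoh.IsPerfect E → DCoh.IsQCohD K → CS K → ∀ i : ℤ, Countable (E ⟶ K⟦i⟧)

theorem QC_affine (R : CommRingCat.{u}) : QC (Spec (CommRingCat.of R)) := by
  intro E K hE hK hc i
  haveI : PreservesFiniteLimits (tilde.functor R) :=
    Groth.Agent.H5.AG.tilde_preservesFiniteLimits _
  obtain ⟨hfull, hfaith, hess⟩ := Groth.Agent.Helper7.QB2.s0997 R
  obtain ⟨E₀, ⟨eE⟩⟩ := (hess E).mp (Groth.Agent.Helper7.QB14.isQCohD_of_isPerfect E hE)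
  obtain ⟨K₀, ⟨eK⟩⟩ := (hess K).mp hK
  have hE₀ : DRing.IsPerfect R E₀ :=
    (Groth.Agent.H4.TilD4.S1105 R E₀).mp (Groth.Agent.H4.PSch5.isPerfect_of_iso eE.symm hE)
  have hK₀ : ∀ j : ℤ, Countable (Dual.HD R K₀ j) := by
    intro j
    apply countable_of_countable_sections_tilde R
    let α : (tilde.functor R).obj ((homologyFunctor (ModuleCat.{u} R) j).obj K₀) ≅ DCoh.HD K j :=
      ((Groth.Agent.H4.TilD9.mapDerivedCategoryHomologyIso (tilde.functor R) j).app K₀).symm ≪≫
        (homologyFunctor _ j).mapIso eK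
    exact countable_sections_of_iso α ⊤ (hc ⊤ (isAffineOpen_top _) j)
  haveI := countable_hom_perfect R E₀ hE₀ K₀ hK₀ i
  let c := ((DCoh.tildeD R).commShiftIso i).app K₀
  refine Function.Surjective.countable
    (f := fun ψ : E₀ ⟶ K₀⟦i⟧ => eE.inv ≫ ((DCoh.tildeD R).map ψ ≫ c.hom) ≫ eK.hom⟦i⟧') ?_
  intro φ
  obtain ⟨ψ, hψ⟩ := (DCoh.tildeD R).map_surjective ((eE.hom ≫ φ ≫ eK.inv⟦i⟧') ≫ c.inv)
  refine ⟨ψ, ?_⟩
  show eE.inv ≫ ((DCoh.tildeD R).map ψ ≫ c.hom) ≫ eK.hom⟦i⟧' = φ
  rw [hψ]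
  simp only [Category.assoc, Iso.inv_hom_id_assoc]
  rw [← Functor.map_comp, Iso.inv_hom_id, CategoryTheory.Functor.map_id, Category.comp_id]

theorem QC_of_iso {W₁ W₂ : Scheme.{u}} (e : W₁ ≅ W₂) (h : QC W₁) : QC W₂ := by
  intro E K hE hK hc i
  haveI := h ((RD e.hom).obj E) ((RD e.hom).obj K)
    (Groth.Agent.LD.PerfDesc.isPerfect_RD e.hom E hE)
    (Groth.Agent.Helper7.QB3.isQCohD_RD e.hom K hK) (CS_RD e.hom K hc) i
  let c := ((RD e.hom).commShiftIso i).app K
  refine Function.Injective.countable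
    (f := fun φ : E ⟶ K⟦i⟧ =>
      ((RD e.hom).map φ ≫ c.hom : (RD e.hom).obj E ⟶ ((RD e.hom).obj K)⟦i⟧)) ?_
  intro φ ψ hφψ
  have h1 : (RD e.hom).map φ = (RD e.hom).map ψ := (cancel_mono c.hom).mp hφψ
  have h0 : (RD e.hom).map (φ - ψ) = 0 := by rw [Functor.map_sub, h1, sub_self]
  exact sub_eq_zero.mp (eq_zero_of_RD_iso_map_eq_zero e _ h0)

section MV

attribute [local instance] Groth.Agent.LD.ExtZeroGen.preservesFiniteLimits_extZero

/-- `Hom(j_! A, K[i])` is countable as soon as `Hom(A, K|_U[i])` is. -/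
lemma countable_hom_extZeroD {U X : Scheme.{u}} (j : U ⟶ X) [IsOpenImmersion j] (A : DCoh.D U)
    (K : DCoh.D X) (i : ℤ) (h : Countable (A ⟶ ((RD j).obj K)⟦i⟧)) :
    Countable ((CxOX.extZeroD j).obj A ⟶ K⟦i⟧) := by
  let adj : CxOX.extZeroD j ⊣ DCoh.restrictD j := mapDerivedCategoryAdj (CxOX.extZeroAdj j)
  haveI := h
  let c := ((RD j).commShiftIso i).app K
  refine Function.Injective.countable
    (f := fun g : (CxOX.extZeroD j).obj A ⟶ K⟦i⟧ =>
      (adj.homEquiv _ _ g ≫ c.hom : A ⟶ ((RD j).obj K)⟦i⟧)) ?_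
  intro g g' hgg
  exact (adj.homEquiv _ _).injective ((cancel_mono c.hom).mp hgg)

theorem QC_mv {Y : Scheme.{u}} (U V : Y.Opens) (hUV : U ⊔ V = ⊤) (hU : QC (U : Scheme.{u}))
    (hV : QC (V : Scheme.{u})) (hW : QC ((U ⊓ V : Y.Opens) : Scheme.{u})) : QC Y := by
  intro E K hE hK hc i
  obtain ⟨a, b, c, hT⟩ := Groth.Agent.LD.MV.exists_mv_triangle U V hUV E
  have hT' := rot_of_distTriang _ hT
  have cU := countable_hom_extZeroD U.ι ((RD U.ι).obj E) K i
    (hU _ _ (Groth.Agent.LD.PerfDesc.isPerfect_RD U.ι E hE)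
      (Groth.Agent.Helper7.QB3.isQCohD_RD U.ι K hK) (CS_RD U.ι K hc) i)
  have cV := countable_hom_extZeroD V.ι ((RD V.ι).obj E) K i
    (hV _ _ (Groth.Agent.LD.PerfDesc.isPerfect_RD V.ι E hE)
      (Groth.Agent.Helper7.QB3.isQCohD_RD V.ι K hK) (CS_RD V.ι K hc) i)
  have cW := countable_hom_extZeroD (U ⊓ V).ι (((RD (U ⊓ V).ι).obj E)⟦(1 : ℤ)⟧) K i
    (hW _ _ (Groth.Agent.H4.PSch5.isPerfect_shift _ 1
        (Groth.Agent.LD.PerfDesc.isPerfect_RD (U ⊓ V).ι E hE))
      (Groth.Agent.Helper7.QB3.isQCohD_RD (U ⊓ V).ι K hK) (CS_RD (U ⊓ V).ι K hc) i)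
  have h1 : Countable ((Triangle.mk a b c).rotate.obj₁ ⟶ K⟦i⟧) := by
    haveI := cU
    haveI := cV
    refine Function.Injective.countable
      (f := fun g : ((CxOX.extZeroD U.ι).obj ((RD U.ι).obj E) ⊞
          (CxOX.extZeroD V.ι).obj ((RD V.ι).obj E)) ⟶ K⟦i⟧ =>
        (biprod.inl ≫ g, biprod.inr ≫ g)) ?_
    intro g g' h
    simp only [Prod.mk.injEq] at h
    exact biprod.hom_ext' _ _ h.1 h.2
  have h3 : Countable ((Triangle.mk a b c).rotate.obj₃ ⟶ K⟦i⟧) := by
    haveI := cW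
    let ι1 : (CxOX.extZeroD (U ⊓ V).ι).obj (((RD (U ⊓ V).ι).obj E)⟦(1 : ℤ)⟧) ≅
        ((CxOX.extZeroD (U ⊓ V).ι).obj ((RD (U ⊓ V).ι).obj E))⟦(1 : ℤ)⟧ :=
      ((CxOX.extZeroD (U ⊓ V).ι).commShiftIso (1 : ℤ)).app ((RD (U ⊓ V).ι).obj E)
    exact countable_hom_of_iso ι1 (Iso.refl (K⟦i⟧))
  exact @countable_hom_of_dist₁ _ _ _ _ _ _ _ _ hT' (K⟦i⟧) h1 h3

end MV

theorem QC_of_qcqs (X : Scheme.{u}) [CompactSpace X] [QuasiSeparatedSpace X] : QC X :=
  scheme_mv_induction QC (fun _ _ e h => QC_of_iso e h)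
    (fun _ U V hUV hU hV hW => QC_mv U V hUV hU hV hW) QC_affine X

/-- **S1099**. -/
theorem s1099 (X : Scheme.{u}) [CompactSpace ↥X] [QuasiSeparatedSpace ↥X]
    (K : DCoh.D X) (hK : DCoh.IsQCohD K)
    (hKc : ∀ V : X.Opens, IsAffineOpen V → ∀ i : ℤ, Countable ((DCoh.HD K i).val.obj (op V)))
    (E : DCoh.D X) (hE : DCoh.IsPerfect E) (U : X.Opens) (hU : IsCompact (U : Set X))
    [PreservesFiniteLimits (Scheme.Modules.restrictFunctor U.ι)] (i : ℤ) :
    Countable ((DCoh.restrictD U.ι).obj E ⟶ ((DCoh.restrictD U.ι).obj K)⟦i⟧) := by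
  haveI : CompactSpace (U : Scheme.{u}) := isCompact_iff_compactSpace.mp hU
  haveI : QuasiSeparatedSpace (U : Scheme.{u}) :=
    QuasiSeparatedSpace.of_isOpenEmbedding U.ι.isOpenEmbedding
  exact QC_of_qcqs (U : Scheme.{u}) _ _ (Groth.Agent.LD.PerfDesc.isPerfect_RD U.ι E hE)
    (Groth.Agent.Helper7.QB3.isQCohD_RD U.ι K hK) (CS_RD U.ι K hKc) i

end Groth.Agent.LD.HomVan
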