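import Mathlib
import Groth.Prelude.Def_DCoh4
import Groth.Prelude.Def_KLin
import Groth.Prelude.Def_CohB1
import Groth.Agent.Lib.Lead.Perf.HomVan5
import Groth.Agent.Lib.Helper2.FormalPB
import Groth.Agent.Lib.Lead.QC.SpecHom

/-! # Morphisms from perfect objects to objects supported on `V(a)` are `a`-power torsion (S7276)

Ring level: for `E ∈ D(R)` perfect and `L ∈ D(R)` whose cohomology modules are `r`-power torsion,
every `ψ : E ⟶ L` is killed by a power of `r` (dévissage on `E`, base case `Hom(R, L[0]) = H⁰(L)`).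
Scheme level: the property `QT W` (for every structure morphism `W ⟶ Spec A`, every morphism from a
perfect object to an object of `D_QCoh` supported on `V(a)` is killed by a power of `a`) holds for
affine schemes, is invariant under isomorphisms and satisfies Mayer–Vietoris (extension by zero
triangle), hence holds for quasi-compact quasi-separated schemes. -/

set_option autoImplicit false
universe u
open CategoryTheory Limits Opposite Pretriangulated Triangulated AlgebraicGeometry TopologicalSpace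

namespace Groth.Agent.LD.HomVan

open DerivedCategory Groth.Agent.LD.DAdj Groth.Agent.H4.PSch2

attribute [local instance] HasDerivedCategory.standard

section Ring

variable (R : Type u) [CommRing R] (r : R)

/-- all cohomology modules are `r`-power torsion. -/
def TorsCoh (L : Dual.D R) : Prop :=
  ∀ (j : ℤ) (x : Dual.HD R L j), ∃ n : ℕ, r ^ n • x = 0

lemma torsCoh_shift (L : Dual.D R) (hL : TorsCoh R r L) (m : ℤ) : TorsCoh R r (L⟦m⟧) := by
  intro j x
  let e : (homologyFunctor (ModuleCat.{u} R) j).obj (L⟦m⟧) ≅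
      (homologyFunctor (ModuleCat.{u} R) (m + j)).obj L :=
    ((homologyFunctor (ModuleCat.{u} R) 0).shiftIso m j (m + j) rfl).app L
  obtain ⟨n, hn⟩ := hL (m + j) (e.toLinearEquiv x)
  refine ⟨n, ?_⟩
  apply e.toLinearEquiv.injective
  rw [map_smul, map_zero]
  exact hn

/-- **ring level**: morphisms from a perfect object to an object with `r`-power torsion
cohomology are `r`-power torsion. -/
theorem exists_pow_smul_eq_zero (E : Dual.D R) (hE : DRing.IsPerfect R E) :
    ∀ L : Dual.D R, TorsCoh R r L → ∀ ψ : E ⟶ L, ∃ n : ℕ, r ^ n • ψ = 0 := by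
  let P : Dual.D R → Prop := fun K =>
    ∀ L : Dual.D R, TorsCoh R r L → ∀ ψ : K ⟶ L, ∃ n : ℕ, r ^ n • ψ = 0
  have hP : Groth.Agent.H4.EV2.ThickPred P :=
    { iso := fun {X Y} e hX L hL ψ => by
        obtain ⟨n, hn⟩ := hX L hL (e.hom ≫ ψ)
        refine ⟨n, ?_⟩
        rw [← Linear.comp_smul] at hn
        exact (cancel_epi e.hom).mp (hn.trans comp_zero.symm)
      shift := fun X m hX L hL ψ => by
        let z : X ≅ (X⟦m⟧)⟦-m⟧ := (shiftShiftNeg X m).symm
        obtain ⟨n, hn⟩ := hX (L⟦-m⟧) (torsCoh_shift R r L hL (-m)) (z.hom ≫ ψ⟦-m⟧')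
        refine ⟨n, ?_⟩
        rw [← Linear.comp_smul] at hn
        have h1 : r ^ n • ψ⟦-m⟧' = 0 := (cancel_epi z.hom).mp (hn.trans comp_zero.symm)
        have h2 : (r ^ n • ψ)⟦-m⟧' = 0 := by rw [Functor.map_smul, h1]
        exact (shiftFunctor (Dual.D R) (-m)).map_injective
          (h2.trans (Functor.map_zero _ _ _).symm)
      ext₂ := fun T hT h1 h3 L hL ψ => by
        obtain ⟨n₁, hn₁⟩ := h1 L hL (T.mor₁ ≫ ψ)
        rw [← Linear.comp_smul] at hn₁
        obtain ⟨β, hβ⟩ := Triangle.yoneda_exact₂ T hT (r ^ n₁ • ψ) hn₁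
        obtain ⟨n₃, hn₃⟩ := h3 L hL β
        refine ⟨n₃ + n₁, ?_⟩
        rw [pow_add, mul_smul, hβ, ← Linear.comp_smul, hn₃, comp_zero]
      retract := fun {X Y} ι p hip hY L hL ψ => by
        obtain ⟨n, hn⟩ := hY L hL (p ≫ ψ)
        refine ⟨n, ?_⟩
        rw [← Linear.comp_smul] at hn
        have h1 : ι ≫ p ≫ (r ^ n • ψ) = 0 := by rw [hn, comp_zero]
        rwa [← Category.assoc, hip, Category.id_comp] at h1 }
  have h1 : P (Dual.inD R R) := fun L hL ψ => by
    obtain ⟨e⟩ := Groth.Agent.H4.US7.nonempty_HD_equiv L 0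
    let z := (shiftFunctorZero (Dual.D R) ℤ).app L
    obtain ⟨n, hn⟩ := hL 0 (e.symm (ψ ≫ z.inv))
    refine ⟨n, ?_⟩
    have h2 : r ^ n • (ψ ≫ z.inv) = 0 := by
      have := congrArg e hn
      rwa [map_smul, map_zero, LinearEquiv.apply_symm_apply] at this
    have h3 : (r ^ n • ψ) ≫ z.inv = 0 := by rw [Linear.smul_comp]; exact h2
    exact (cancel_mono z.inv).mp (h3.trans zero_comp.symm)
  exact hP.of_isPerfect h1 hE

/-- a module whose support lies in `V(r)` is `r`-power torsion. -/
lemma exists_pow_smul_eq_zero_of_support (N : Type u) [AddCommGroup N] [Module R N]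
    (h : ∀ p ∈ Module.support R N, r ∈ p.asIdeal) (x : N) : ∃ n : ℕ, r ^ n • x = 0 := by
  have hr : r ∈ ((R ∙ x).annihilator).radical := by
    rw [Ideal.radical_eq_sInf, Ideal.mem_sInf]
    rintro J ⟨hJ, hJp⟩
    exact h ⟨J, hJp⟩ (Module.mem_support_iff_exists_annihilator.mpr ⟨x, hJ⟩)
  obtain ⟨n, hn⟩ := Ideal.mem_radical_iff.mp hr
  exact ⟨n, (Submodule.mem_annihilator_span_singleton x (r ^ n)).mp hn⟩

end Ring

section Support

lemma subsingleton_stalk_congr {X : Scheme.{u}} {M N : X.Modules} (e : M ≅ N) (x : X) :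
    Subsingleton (M.presheaf.stalk x) ↔ Subsingleton (N.presheaf.stalk x) := by
  have e' : M.presheaf.stalk x ≅ N.presheaf.stalk x :=
    (TopCat.Presheaf.stalkFunctor Ab x).mapIso ((Scheme.Modules.toPresheaf X).mapIso e)
  exact e'.addCommGroupIsoToAddEquiv.toEquiv.subsingleton_congr

lemma support_subset_of_iso {X : Scheme.{u}} {M N : X.Modules} (e : M ≅ N) :
    CohB1.support M ⊆ CohB1.support N := by
  intro x hx
  change ¬ Subsingleton (N.presheaf.stalk x)
  rw [← subsingleton_stalk_congr e x]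
  exact hx

/-- stalks of the cohomology sheaves of `tildeD`. -/
lemma nontrivial_stalk_tildeD (R : CommRingCat.{u}) [PreservesFiniteLimits (tilde.functor R)]
    (ω' : DerivedCategory (ModuleCat.{u} R)) (p : PrimeSpectrum R) (i : ℤ) :
    Nontrivial ((DCoh.HD ((DCoh.tildeD R).obj ω') i).presheaf.stalk
        (show ↥(Spec (CommRingCat.of R)) from p)) ↔
      p ∈ Module.support R ((DerivedCategory.homologyFunctor (ModuleCat.{u} R) i).obj ω') := by
  have e3 : DCoh.HD ((DCoh.tildeD R).obj ω') i ≅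
      (tilde.functor R).obj ((DerivedCategory.homologyFunctor (ModuleCat.{u} R) i).obj ω') :=
    (Groth.Agent.H4.TilD9.mapDerivedCategoryHomologyIso (tilde.functor R) i).app ω'
  rw [← not_subsingleton_iff_nontrivial, subsingleton_stalk_congr e3,
    not_subsingleton_iff_nontrivial, Module.mem_support_iff]
  exact ((IsLocalizedModule.iso p.asIdeal.primeCompl
    (tilde.toStalk ((DerivedCategory.homologyFunctor (ModuleCat.{u} R) i).obj ω') p).hom).toEquiv.nontrivial_congr).symm

/-- the support condition: all cohomology sheaves are supported on the zero locus of `ρ`. -/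
def SC {W : Scheme.{u}} (ρ : Coh.Γtop W) (L : DCoh.D W) : Prop :=
  ∀ i : ℤ, CohB1.support (DCoh.HD L i) ⊆ (W.zeroLocus (U := ⊤) {ρ} : Set W)

lemma SC_RD {U Y : Scheme.{u}} (j : U ⟶ Y) [IsOpenImmersion j] (ρ : Coh.Γtop Y) (L : DCoh.D Y)
    (hL : SC ρ L) : SC (j.appTop.hom ρ) ((RD j).obj L) := by
  intro i y hy
  have h1 : y ∈ CohB1.support ((DCoh.HD L i).restrict j) :=
    support_subset_of_iso ((Groth.Agent.H4.TilD9.mapDerivedCategoryHomologyIso
      (Scheme.Modules.restrictFunctor j) i).app L) hy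
  have h2 : j y ∈ CohB1.support (DCoh.HD L i) :=
    (Groth.Agent.LD.QC.mem_support_restrict_iff j _ y).mp h1
  have h3 := hL i h2
  rw [Scheme.mem_zeroLocus_iff] at h3 ⊢
  intro f hf
  obtain rfl : f = j.appTop.hom ρ := hf
  have h4 := h3 ρ rfl
  intro h5
  apply h4
  have h6 : y ∈ j ⁻¹ᵁ (Y.basicOpen ρ) := by
    rw [Scheme.preimage_basicOpen_top]
    exact h5
  exact h6

lemma SC_shift {W : Scheme.{u}} (ρ : Coh.Γtop W) (L : DCoh.D W) (hL : SC ρ L) (n : ℤ) :
    SC ρ (L⟦n⟧) := fun i =>
  (support_subset_of_iso (HDshiftIso L n i)).trans (hL (n + i))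

end Support

section LinearRestrict

variable {A : Type u} [CommRing A]

lemma restrict_map_smulMod {U Y : Scheme.{u}} [U.Over (Spec (CommRingCat.of A))]
    [Y.Over (Spec (CommRingCat.of A))] (j : U ⟶ Y) [IsOpenImmersion j]
    (hj : j ≫ (Y ↘ Spec (CommRingCat.of A)) = U ↘ Spec (CommRingCat.of A))
    (F : Y.Modules) (a : A) :
    (Scheme.Modules.restrictFunctor j).map (Formal.smulMod A F a) =
      Formal.smulMod A ((Scheme.Modules.restrictFunctor j).obj F) a := by
  let e := Scheme.Modules.restrictFunctorIsoPullback j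
  rw [← cancel_mono (e.hom.app F), e.hom.naturality,
    Groth.Agent.H2.FormalPB.pullback_map_smulMod j hj F a]
  exact KLin.comp_smulModΓ _ _

/-- restriction along an open immersion over `Spec A` is `A`-linear. -/
lemma linear_restrictFunctor {U Y : Scheme.{u}} [U.Over (Spec (CommRingCat.of A))]
    [Y.Over (Spec (CommRingCat.of A))] (j : U ⟶ Y) [IsOpenImmersion j]
    (hj : j ≫ (Y ↘ Spec (CommRingCat.of A)) = U ↘ Spec (CommRingCat.of A)) :
    (Scheme.Modules.restrictFunctor j).Linear A where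
  map_smul {M N} f a := by
    rw [KLin.smul_def, KLin.smul_def, Functor.map_comp, restrict_map_smulMod j hj]

end LinearRestrict

end Groth.Agent.LD.HomVan
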