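import Mathlib
import Groth.Agent.Lib.Helper7.QB37
import Groth.Agent.Lib.Lead.Perf.HomVan6
import Groth.Agent.H4.PC2
import Groth.Agent.H4.PC6
import Groth.Agent.H4.PC7
import Groth.Agent.H4.Perf1
import Groth.Agent.H4.DRing2
import Groth.Agent.H4.KosPerf
import Groth.Agent.H4.US7
import Groth.Agent.H4.AP1
import Groth.Agent.H4.ARK2

/-! # Approximation by perfect complexes supported on `V(f₁, …, f_r)`: ring level (S7261)

For `N ∈ D(A)` which is `m`-pseudo-coherent and whose cohomology modules `Hⁱ(N)`, `i ≥ m - r + 1`, are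
`f_j`-power torsion for every `j`, there are a perfect `P` with `f_j`-power torsion cohomology and
`α : P ⟶ N` which is an isomorphism on `Hⁱ` for `i > m` and surjective on `H^m`.

Induction on the top degree `t` of `N` and on the number of generators of `Hom(A[-t], N) = H^t(N)`:
a generator factors through a shifted Koszul complex on powers (helper7 `QB36.factor`); pass to the
cone and use the octahedral axiom. -/

set_option autoImplicit false
universe u
open CategoryTheory Limits Pretriangulated Triangulated ZeroObject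

namespace Groth.Agent.LD.Approx

open DerivedCategory Groth.Agent.H4 Groth.Agent.Helper7 Groth.Agent.LD.HomVan

attribute [local instance] HasDerivedCategory.standard

variable {A : Type u} [CommRing A]

/-- the unit object `A[0]` (as the empty Koszul complex). -/
noncomputable abbrev U (A : Type u) [CommRing A] : DerivedCategory (ModuleCat.{u} A) :=
  Q.obj (Koszul.koszul A [])

/-- the test object `A[-t]`. -/
noncomputable abbrev V (A : Type u) [CommRing A] (t : ℤ) : DerivedCategory (ModuleCat.{u} A) :=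
  (U A)⟦-t⟧

noncomputable def cV (A : Type u) [CommRing A] (t : ℤ) : AP1.W A t ≅ V A t :=
  QB33.nilIso t (-t) (neg_add_cancel t)

noncomputable def cU (A : Type u) [CommRing A] : Dual.inD A A ≅ U A :=
  (singleFunctorIsoCompQ (ModuleCat.{u} A) 0).app (ModuleCat.of A A)

section Tors

lemma tors_mid (T : Triangle (DerivedCategory (ModuleCat.{u} A)))
    (hT : T ∈ distTriang (DerivedCategory (ModuleCat.{u} A))) (g : A) (i : ℤ)
    (h1 : ∀ x : ((homologyFunctor (ModuleCat.{u} A) i).obj T.obj₁ : ModuleCat.{u} A),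
      ∃ k : ℕ, g ^ k • x = 0)
    (h3 : ∀ x : ((homologyFunctor (ModuleCat.{u} A) i).obj T.obj₃ : ModuleCat.{u} A),
      ∃ k : ℕ, g ^ k • x = 0) :
    ∀ x : ((homologyFunctor (ModuleCat.{u} A) i).obj T.obj₂ : ModuleCat.{u} A),
      ∃ k : ℕ, g ^ k • x = 0 := by
  intro x
  let f1 := (homologyFunctor (ModuleCat.{u} A) i).map T.mor₁
  let f2 := (homologyFunctor (ModuleCat.{u} A) i).map T.mor₂
  have hex : (ShortComplex.mk f1 f2 (by
      rw [← Functor.map_comp, comp_distTriang_mor_zero₁₂ _ hT, Functor.map_zero])).Exact :=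
    (homologyFunctor (ModuleCat.{u} A) 0).homologySequence_exact₂ T hT i
  rw [ShortComplex.moduleCat_exact_iff] at hex
  obtain ⟨k3, hk3⟩ := h3 (f2.hom x)
  have hy : f2.hom (g ^ k3 • x) = 0 := by rw [map_smul]; exact hk3
  obtain ⟨y, hy'⟩ := hex (g ^ k3 • x) hy
  obtain ⟨k1, hk1⟩ := h1 y
  refine ⟨k1 + k3, ?_⟩
  have hy'' : f1.hom y = g ^ k3 • x := hy'
  rw [pow_add, mul_smul, ← hy'', ← map_smul, hk1, map_zero]

lemma tors_shift_at (g : A) (N : DerivedCategory (ModuleCat.{u} A)) (a j i : ℤ) (h : a + j = i)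
    (hN : ∀ x : ((homologyFunctor (ModuleCat.{u} A) i).obj N : ModuleCat.{u} A),
      ∃ k : ℕ, g ^ k • x = 0) :
    ∀ x : ((homologyFunctor (ModuleCat.{u} A) j).obj (N⟦a⟧) : ModuleCat.{u} A),
      ∃ k : ℕ, g ^ k • x = 0 := by
  intro x
  let e : (homologyFunctor (ModuleCat.{u} A) j).obj (N⟦a⟧) ≅
      (homologyFunctor (ModuleCat.{u} A) i).obj N :=
    ((homologyFunctor (ModuleCat.{u} A) 0).shiftIso a j i h).app N
  obtain ⟨n, hn⟩ := hN (e.toLinearEquiv x)
  refine ⟨n, ?_⟩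
  apply e.toLinearEquiv.injective
  rw [map_smul, map_zero]
  exact hn

/-- perfect with `g`-power torsion cohomology for all `g ∈ fs`. -/
def PP (fs : List A) (Z : DerivedCategory (ModuleCat.{u} A)) : Prop :=
  DRing.IsPerfect A Z ∧ ∀ g ∈ fs, TorsCoh A g Z

lemma PP.shift (fs : List A) {Z : DerivedCategory (ModuleCat.{u} A)} (h : PP fs Z) (n : ℤ) :
    PP fs (Z⟦n⟧) :=
  ⟨DRing1.isPerfect_shift Z n h.1, fun g hg => torsCoh_shift A g Z (h.2 g hg) n⟩

lemma PP.of_isZero (fs : List A) {Z : DerivedCategory (ModuleCat.{u} A)} (hZ : IsZero Z) :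
    PP fs Z := by
  refine ⟨DRing1.isPerfect_of_isZero Z hZ, fun g _ j x => ⟨0, ?_⟩⟩
  have hz : IsZero ((homologyFunctor (ModuleCat.{u} A) j).obj Z) :=
    (homologyFunctor (ModuleCat.{u} A) j).map_isZero hZ
  haveI := ModuleCat.subsingleton_of_isZero hz
  exact Subsingleton.elim _ _

lemma PP.mid (fs : List A) (T : Triangle (DerivedCategory (ModuleCat.{u} A)))
    (hT : T ∈ distTriang (DerivedCategory (ModuleCat.{u} A)))
    (h1 : PP fs T.obj₁) (h3 : PP fs T.obj₃) : PP fs T.obj₂ :=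
  ⟨(DRing1.isPerfect_two_out_of_three T hT).2.1 h1.1 h3.1,
    fun g hg j x => tors_mid T hT g j (h1.2 g hg j) (h3.2 g hg j) x⟩

lemma torsCoh_koszul (fs : List A) (e : ℕ) (g : A) (hg : g ∈ fs) :
    TorsCoh A g (Q.obj (Koszul.koszul A (fs.map (fun a => a ^ e)))) := by
  intro j x
  let ε : (homologyFunctor (ModuleCat.{u} A) j).obj
        (Q.obj (Koszul.koszul A (fs.map (fun a => a ^ e)))) ≅
      (Koszul.koszul A (fs.map (fun a => a ^ e))).homology j :=
    (homologyFunctorFactors (ModuleCat.{u} A) j).app _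
  have hg' : g ^ e ∈ fs.map (fun a => a ^ e) := List.mem_map.2 ⟨g, hg, rfl⟩
  obtain ⟨k, hk⟩ := QB31.koszul_homology_tors (fs.map (fun a => a ^ e)) (g ^ e) hg' j
    (ε.toLinearEquiv x)
  refine ⟨e * k, ?_⟩
  apply ε.toLinearEquiv.injective
  rw [map_smul, map_zero, pow_mul]
  exact hk

lemma PP_koszul (fs : List A) (e : ℕ) (n : ℤ) :
    PP fs ((Q.obj (Koszul.koszul A (fs.map (fun a => a ^ e))))⟦n⟧) :=
  PP.shift fs ⟨KosPerf.isPerfect_koszul _, fun g hg => torsCoh_koszul fs e g hg⟩ n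

lemma isLE_koszul (l : List A) : (Q.obj (Koszul.koszul A l)).IsLE 0 := by
  rw [DerivedCategory.isLE_iff]
  intro i hi
  exact PC.isZero_homology_toD_of_isZero _ i (ARK2.isZero_koszul_X_of_pos l i hi)

end Tors

section Test

lemma hom_V_eq_zero (t : ℤ) (X : DerivedCategory (ModuleCat.{u} A)) (hX : X.IsLE (t - 1))
    (φ : V A t ⟶ X) : φ = 0 := by
  haveI := hX
  have h := AP1.hom_W_eq_zero_of_isLE X (t - 1) t (by omega) ((cV A t).hom ≫ φ)
  exact (cancel_epi (cV A t).hom).1 (h.trans comp_zero.symm)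

noncomputable def Psi (t : ℤ) (N : DerivedCategory (ModuleCat.{u} A)) :
    (V A t ⟶ N) →ₗ[A] (Dual.inD A A ⟶ N⟦t⟧) where
  toFun s := (cU A).hom ≫ (shiftNegShift (U A) t).inv ≫ s⟦t⟧'
  map_add' s s' := by
    rw [Functor.map_add, Preadditive.comp_add, Preadditive.comp_add]
  map_smul' a s := by
    rw [Functor.map_smul, Linear.comp_smul, Linear.comp_smul]
    rfl

lemma Psi_bijective (t : ℤ) (N : DerivedCategory (ModuleCat.{u} A)) :
    Function.Bijective (Psi (A := A) t N) := by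
  constructor
  · intro s s' h
    have h1 : (shiftNegShift (U A) t).inv ≫ s⟦t⟧' = (shiftNegShift (U A) t).inv ≫ s'⟦t⟧' :=
      (cancel_epi (cU A).hom).1 h
    exact (shiftFunctor (DerivedCategory (ModuleCat.{u} A)) t).map_injective
      ((cancel_epi (shiftNegShift (U A) t).inv).1 h1)
  · intro φ
    obtain ⟨s, hs⟩ := (shiftFunctor (DerivedCategory (ModuleCat.{u} A)) t).map_surjective
      ((shiftNegShift (U A) t).hom ≫ (cU A).inv ≫ φ)
    refine ⟨s, ?_⟩
    change (cU A).hom ≫ (shiftNegShift (U A) t).inv ≫ s⟦t⟧' = φ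
    rw [hs, Iso.inv_hom_id_assoc, Iso.hom_inv_id_assoc]

lemma exists_span (m t : ℤ) (hmt : m ≤ t) (N : DerivedCategory (ModuleCat.{u} A))
    (hpc : DRing.IsPseudoCoherent A m N) (hLE : N.IsLE t) :
    ∃ (k : ℕ) (s : Fin k → (V A t ⟶ N)), Submodule.span A (Set.range s) = ⊤ := by
  have hfin : Module.Finite A ((homologyFunctor (ModuleCat.{u} A) t).obj N) :=
    PC.finite_homology N t (PC.isPC_mono hmt hpc)
      (fun i hi => (DerivedCategory.isLE_iff N t).1 hLE i hi)
  obtain ⟨e⟩ := US7.nonempty_HD_equiv N t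
  haveI : Module.Finite A (Dual.inD A A ⟶ N⟦t⟧) := Module.Finite.equiv e
  haveI : Module.Finite A (V A t ⟶ N) :=
    Module.Finite.equiv (LinearEquiv.ofBijective (Psi t N) (Psi_bijective t N)).symm
  exact Module.Finite.exists_fin

theorem factor_shift (fs : List A) (t : ℤ) (N : DerivedCategory (ModuleCat.{u} A))
    (htors : ∀ g ∈ fs, ∀ j : ℕ, j < fs.length →
      ∀ x : ((homologyFunctor (ModuleCat.{u} A) (t - j)).obj N : ModuleCat.{u} A),
        ∃ k : ℕ, g ^ k • x = 0)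
    (s : V A t ⟶ N) :
    ∃ (e : ℕ) (ι : V A t ⟶ (Q.obj (Koszul.koszul A (fs.map (fun a => a ^ e))))⟦-t⟧)
      (ψ : (Q.obj (Koszul.koszul A (fs.map (fun a => a ^ e))))⟦-t⟧ ⟶ N), ι ≫ ψ = s := by
  have h0 : ∀ g ∈ fs, ∀ j : ℕ, j < fs.length →
      ∀ ψ : (Q.obj (Koszul.koszul A []))⟦(j : ℤ)⟧ ⟶ N⟦t⟧, ∃ k : ℕ, g ^ k • ψ = 0 := by
    intro g hg j hj ψ
    have hx : ∀ x : ((homologyFunctor (ModuleCat.{u} A) (-(j : ℤ))).obj (N⟦t⟧) :
        ModuleCat.{u} A), ∃ k : ℕ, g ^ k • x = 0 :=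
      tors_shift_at g N t (-(j : ℤ)) (t - j) (by ring) (htors g hg j hj)
    obtain ⟨k, hk⟩ := QB33.tors_W_at (N⟦t⟧) g (-(j : ℤ)) hx
      ((QB33.nilIso (-(j : ℤ)) j (by simp)).hom ≫ ψ)
    refine ⟨k, ?_⟩
    rw [← Linear.comp_smul] at hk
    exact (cancel_epi (QB33.nilIso (A := A) (-(j : ℤ)) j (by simp)).hom).1
      (hk.trans comp_zero.symm)
  obtain ⟨e, ψ₀, hψ₀⟩ := QB36.factor fs (N⟦t⟧) h0 ((shiftNegShift (U A) t).inv ≫ s⟦t⟧')
  obtain ⟨ψ, hψ⟩ := (shiftFunctor (DerivedCategory (ModuleCat.{u} A)) t).map_surjective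
    ((shiftNegShift (Q.obj (Koszul.koszul A (fs.map (fun a => a ^ e)))) t).hom ≫ ψ₀)
  obtain ⟨ι, hι⟩ := (shiftFunctor (DerivedCategory (ModuleCat.{u} A)) t).map_surjective
    ((shiftNegShift (U A) t).hom ≫ QB36.iota (fs.map (fun a => a ^ e)) ≫
      (shiftNegShift (Q.obj (Koszul.koszul A (fs.map (fun a => a ^ e)))) t).inv)
  refine ⟨e, ι, ψ, (shiftFunctor (DerivedCategory (ModuleCat.{u} A)) t).map_injective ?_⟩
  rw [Functor.map_comp, hι, hψ]
  simp only [Category.assoc, Iso.inv_hom_id_assoc]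
  rw [hψ₀, Iso.hom_inv_id_assoc]

end Test

section Main

/-- the hypotheses on `N`. -/
def Hyp (fs : List A) (m : ℤ) (N : DerivedCategory (ModuleCat.{u} A)) : Prop :=
  DRing.IsPseudoCoherent A m N ∧
  ∀ g ∈ fs, ∀ i : ℤ, m - (fs.length : ℤ) + 1 ≤ i →
    ∀ x : ((homologyFunctor (ModuleCat.{u} A) i).obj N : ModuleCat.{u} A), ∃ k : ℕ, g ^ k • x = 0

/-- the conclusion, in triangle form. -/
def Good (fs : List A) (m : ℤ) (N : DerivedCategory (ModuleCat.{u} A)) : Prop :=
  ∃ (P : DerivedCategory (ModuleCat.{u} A)) (α : P ⟶ N) (C : DerivedCategory (ModuleCat.{u} A))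
    (β : N ⟶ C) (γ : C ⟶ P⟦(1 : ℤ)⟧),
    Triangle.mk α β γ ∈ distTriang (DerivedCategory (ModuleCat.{u} A)) ∧ PP fs P ∧ C.IsLE (m - 1)

lemma good_of_triangle (fs : List A) (m : ℤ) {K' N N' : DerivedCategory (ModuleCat.{u} A)}
    (ψ : K' ⟶ N) (a : N ⟶ N') (δ : N' ⟶ K'⟦(1 : ℤ)⟧)
    (hT : Triangle.mk ψ a δ ∈ distTriang (DerivedCategory (ModuleCat.{u} A)))
    (hK : PP fs K') (hN' : Good fs m N') : Good fs m N := by
  obtain ⟨P', α', C, β', γ', h', hP', hC⟩ := hN'
  obtain ⟨P, α, γ, h13⟩ := distinguished_cocone_triangle₁ (a ≫ β')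
  let oct := Triangulated.someOctahedron' (rfl : a ≫ β' = a ≫ β') hT h' h13
  exact ⟨P, α, C, a ≫ β', γ, h13, PP.mid fs _ oct.mem hK hP', hC⟩

theorem inner (fs : List A) (m t : ℤ) (hmt : m ≤ t)
    (IH : ∀ N : DerivedCategory (ModuleCat.{u} A), N.IsLE (t - 1) → Hyp fs m N → Good fs m N) :
    ∀ (k : ℕ) (N : DerivedCategory (ModuleCat.{u} A)), N.IsLE t → Hyp fs m N →
      (∃ s : Fin k → (V A t ⟶ N), Submodule.span A (Set.range s) = ⊤) → Good fs m N := by
  intro k
  induction k with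
  | zero =>
    rintro N hLE hN ⟨s, hs⟩
    have h0 : ∀ φ : V A t ⟶ N, φ = 0 := by
      intro φ
      have hφ : φ ∈ Submodule.span A (Set.range s) := by rw [hs]; trivial
      have hr : Set.range s = ∅ := Set.range_eq_empty s
      rw [hr, Submodule.span_empty] at hφ
      exact (Submodule.mem_bot A).1 hφ
    have hz : IsZero ((homologyFunctor (ModuleCat.{u} A) t).obj N) := by
      apply QB33.isZero_homology_of_hom_W
      intro ψ
      have h1 := h0 ((cV A t).inv ≫ ψ)
      exact (cancel_epi (cV A t).inv).1 (h1.trans comp_zero.symm)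
    have hLE' : N.IsLE (t - 1) := by
      rw [DerivedCategory.isLE_iff]
      intro i hi
      by_cases hit : i = t
      · subst hit; exact hz
      · exact (DerivedCategory.isLE_iff N t).1 hLE i (by omega)
    exact IH N hLE' hN
  | succ k ih =>
    rintro N hLE ⟨hpc, htors⟩ ⟨s, hs⟩
    obtain ⟨e, ι, ψ, hιψ⟩ := factor_shift fs t N
      (fun g hg j hj => htors g hg (t - j) (by omega)) (s 0)
    obtain ⟨N', a, δ, hT⟩ := distinguished_cocone_triangle ψ
    have hPK : PP fs ((Q.obj (Koszul.koszul A (fs.map (fun a => a ^ e))))⟦-t⟧) :=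
      PP_koszul fs e (-t)
    have hKLE : ((Q.obj (Koszul.koszul A (fs.map (fun a => a ^ e))))⟦-t⟧).IsLE t := by
      haveI := isLE_koszul (fs.map (fun a => a ^ e))
      exact DerivedCategory.TStructure.t.isLE_shift _ 0 (-t) t (by omega)
    have hK1LE : (((Q.obj (Koszul.koszul A (fs.map (fun a => a ^ e))))⟦-t⟧)⟦(1 : ℤ)⟧).IsLE
        (t - 1) := by
      haveI := hKLE
      exact DerivedCategory.TStructure.t.isLE_shift _ t 1 (t - 1) (by omega)
    have hK1LE' : (((Q.obj (Koszul.koszul A (fs.map (fun a => a ^ e))))⟦-t⟧)⟦(1 : ℤ)⟧).IsLE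
        t := by
      haveI := hK1LE
      exact DerivedCategory.TStructure.t.isLE_of_le _ (t - 1) t (by omega)
    have hrot : Triangle.mk a δ (-ψ⟦(1 : ℤ)⟧') ∈
        distTriang (DerivedCategory (ModuleCat.{u} A)) := rot_of_distTriang _ hT
    have hN'LE : N'.IsLE t := DerivedCategory.TStructure.t.isLE₂ _ hrot t hLE hK1LE'
    have hN' : Hyp fs m N' := by
      refine ⟨PC.isPC_obj₃ _ hT m (PC.isPC_of_isPC' _ (Perf.isPC'_of_isPerfect hPK.1) (m + 1))
        hpc, ?_⟩
      intro g hg i hi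
      exact tors_mid _ hrot g i (htors g hg i hi) ((hPK.shift fs 1).2 g hg i)
    have hψa : ψ ≫ a = 0 := comp_distTriang_mor_zero₁₂ _ hT
    have hs' : Submodule.span A (Set.range (fun j : Fin k => s j.succ ≫ a)) = ⊤ := by
      rw [eq_top_iff]
      intro φ _
      have hφδ : φ ≫ δ = 0 := hom_V_eq_zero t _ hK1LE (φ ≫ δ)
      obtain ⟨φ₀, hφ₀⟩ := Triangle.coyoneda_exact₃ _ hT φ hφδ
      have hmem : φ₀ ∈ Submodule.span A (Set.range s) := by rw [hs]; trivial
      have hmap := Submodule.mem_map_of_mem (f := Linear.rightComp A (V A t) a) hmem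
      rw [Submodule.map_span] at hmap
      have hle : Submodule.span A ((Linear.rightComp A (V A t) a) '' Set.range s) ≤
          Submodule.span A (Set.range (fun j : Fin k => s j.succ ≫ a)) := by
        apply Submodule.span_le.2
        rintro _ ⟨_, ⟨i, rfl⟩, rfl⟩
        refine Fin.cases ?_ (fun j => ?_) i
        · have h1 : (Linear.rightComp A (V A t) a) (s 0) = 0 := by
            change s 0 ≫ a = 0
            rw [← hιψ, Category.assoc, hψa, comp_zero]
          rw [h1]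
          exact Submodule.zero_mem _
        · exact Submodule.subset_span ⟨j, rfl⟩
      rw [hφ₀]
      exact hle hmap
    exact good_of_triangle fs m ψ a δ hT hPK (ih N' hN'LE hN' ⟨_, hs'⟩)

theorem outer (fs : List A) (m : ℤ) :
    ∀ (n : ℕ) (N : DerivedCategory (ModuleCat.{u} A)), N.IsLE (m - 1 + n) → Hyp fs m N →
      Good fs m N := by
  intro n
  induction n with
  | zero =>
    intro N hLE hN
    have hLE' : N.IsLE (m - 1) := by simpa using hLE
    exact ⟨0, 0, N, 𝟙 N, 0, contractible_distinguished₁ N, PP.of_isZero fs (isZero_zero _), hLE'⟩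
  | succ n ih =>
    intro N hLE hN
    have hLE' : N.IsLE (m + n) := by
      have h1 : m - 1 + ((n + 1 : ℕ) : ℤ) = m + n := by push_cast; ring
      rwa [h1] at hLE
    obtain ⟨k, s, hs⟩ := exists_span m (m + n) (by omega) N hN.1 hLE'
    refine inner fs m (m + n) (by omega) (fun N' h' hN' => ih N' ?_ hN') k N hLE' hN ⟨s, hs⟩
    have h2 : m + (n : ℤ) - 1 = m - 1 + n := by ring
    rwa [h2] at h'

/-- **ring-level approximation by perfect complexes with torsion cohomology.** -/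
theorem ring_approx (fs : List A) (m : ℤ) (N : DerivedCategory (ModuleCat.{u} A))
    (hN : Hyp fs m N) :
    ∃ (P : DerivedCategory (ModuleCat.{u} A)) (α : P ⟶ N), DRing.IsPerfect A P ∧
      (∀ g ∈ fs, TorsCoh A g P) ∧ PC.IsWit m α := by
  obtain ⟨b, hb⟩ := PC.exists_bound_of_isPC hN.1
  have hLE : N.IsLE (m - 1 + ((b - (m - 1)).toNat : ℤ)) := by
    rw [DerivedCategory.isLE_iff]
    intro i hi
    exact hb i (by have := Int.self_le_toNat (b - (m - 1)); omega)
  obtain ⟨P, α, C, β, γ, hT, hP, hC⟩ := outer fs m _ N hLE hN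
  exact ⟨P, α, hP.1, hP.2, (PC.isWit_iff_isLE _ hT m).2 hC⟩

end Main

end Groth.Agent.LD.Approx
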