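import Mathlib
import Groth.Prelude.Def_DCoh4
import Groth.Prelude.Def_KLin
import Groth.Prelude.Def_CohB1
import Groth.Agent.Lib.Lead.Perf.HomVan6

/-! # Morphisms from perfect objects to objects supported on `V(a)` are `a`-power torsion (S7276), II

Compatibility of `M ↦ M~` with the linear structures, the affine case, invariance under
isomorphisms, the Mayer–Vietoris step and the statement for quasi-compact quasi-separated
schemes. -/

set_option autoImplicit false
universe u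
open CategoryTheory Limits Opposite Pretriangulated Triangulated AlgebraicGeometry TopologicalSpace

namespace Groth.Agent.LD.HomVan

open DerivedCategory Groth.Agent.LD.DAdj Groth.Agent.H4.PSch2

attribute [local instance] HasDerivedCategory.standard

section Tilde

variable (R : CommRingCat.{u})

lemma Γ_map_smulModΓ (N : (Spec R).Modules) (r' : R) :
    (moduleSpecΓFunctor (R := R)).map (Formal.smulModΓ N ((Scheme.ΓSpecIso R).inv.hom r')) =
      r' • 𝟙 ((moduleSpecΓFunctor (R := R)).obj N) := by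
  ext s
  change Coh.resTop (Spec R) (op ⊤) ((Scheme.ΓSpecIso R).inv.hom r') •
    (show N.val.obj (op ⊤) from s) = _
  have h1 : (homOfLE (le_top (a := (⊤ : (Spec R).Opens)))).op = 𝟙 _ := Subsingleton.elim _ _
  unfold Coh.resTop
  rw [h1, CategoryTheory.Functor.map_id]
  rfl

/-- the sheaf associated to multiplication by `r'` is multiplication by (the global function) `r'`. -/
lemma tilde_map_smulΓ (L : ModuleCat.{u} R) (r' : R) :
    (tilde.functor R).map (r' • 𝟙 L) =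
      Formal.smulModΓ ((tilde.functor R).obj L) ((Scheme.ΓSpecIso R).inv.hom r') := by
  apply ((tilde.adjunction (R := R)).homEquiv L _).injective
  rw [Adjunction.homEquiv_unit, Adjunction.homEquiv_unit, Γ_map_smulModΓ]
  have := (tilde.adjunction (R := R)).unit.naturality (r' • 𝟙 L)
  rw [Functor.comp_map] at this
  rw [← this, Functor.id_map, Linear.smul_comp, Linear.comp_smul]
  erw [Category.id_comp]

variable {A : Type u} [CommRing A] [(Spec (CommRingCat.of R)).Over (Spec (CommRingCat.of A))]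

/-- the ring map `A → R` attached to the structure morphism `Spec R ⟶ Spec A`. -/
noncomputable def phi : A →+* R :=
  ((Scheme.ΓSpecIso (CommRingCat.of R)).hom.hom).comp
    (Coh.toGlobal (Spec (CommRingCat.of R) ↘ Spec (CommRingCat.of A)))

lemma inv_phi (a' : A) : (Scheme.ΓSpecIso (CommRingCat.of R)).inv.hom (phi R a') =
    Coh.toGlobal (Spec (CommRingCat.of R) ↘ Spec (CommRingCat.of A)) a' :=
  Iso.hom_inv_id_apply (Scheme.ΓSpecIso (CommRingCat.of R)) _

lemma tilde_map_smul (L : ModuleCat.{u} R) (a' : A) :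
    (tilde.functor R).map (phi R a' • 𝟙 L) =
      a' • 𝟙 ((tilde.functor R).obj L : (Spec (CommRingCat.of R)).Modules) := by
  rw [KLin.smul_id]
  unfold Formal.smulMod
  rw [← inv_phi R a']
  exact tilde_map_smulΓ R L (phi R a')

lemma mapHC_map_smul (C : CochainComplex (ModuleCat.{u} R) ℤ) (a' : A) :
    ((tilde.functor R).mapHomologicalComplex (ComplexShape.up ℤ)).map (phi R a' • 𝟙 C) =
      a' • 𝟙 ((((tilde.functor R).mapHomologicalComplex (ComplexShape.up ℤ)).obj C :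
        CochainComplex (Spec (CommRingCat.of R)).Modules ℤ)) := by
  refine HomologicalComplex.hom_ext _ _ (fun n => ?_)
  rw [Functor.mapHomologicalComplex_map_f, HomologicalComplex.smul_f_apply,
    HomologicalComplex.id_f]
  rw [HomologicalComplex.smul_f_apply, HomologicalComplex.id_f]
  exact tilde_map_smul R (C.X n) a'

variable [PreservesFiniteLimits (tilde.functor R)]

lemma tildeD_map_smul_id (K₀ : DerivedCategory (ModuleCat.{u} R)) (a' : A) :
    (DCoh.tildeD R).map (phi R a' • 𝟙 K₀) = a' • 𝟙 ((DCoh.tildeD R).obj K₀) := by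
  have key : ∀ C : CochainComplex (ModuleCat.{u} R) ℤ,
      (DCoh.tildeD R).map (phi R a' • 𝟙 (Q.obj C)) =
        a' • 𝟙 ((DCoh.tildeD R).obj (Q.obj C)) := by
    intro C
    let φ' := (tilde.functor R).mapDerivedCategoryFactors
    have h1 : phi R a' • 𝟙 (Q.obj C) = Q.map (phi R a' • 𝟙 C) := by
      rw [Functor.map_smul, CategoryTheory.Functor.map_id]
    have h2 := φ'.hom.naturality (phi R a' • 𝟙 C)
    simp only [Functor.comp_map] at h2
    rw [h1, ← cancel_mono (φ'.hom.app C), h2, mapHC_map_smul, Functor.map_smul,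
      CategoryTheory.Functor.map_id, Linear.comp_smul, Linear.smul_comp]
    erw [Category.comp_id, Category.id_comp]
  let e := Q.objObjPreimageIso K₀
  have h3 : phi R a' • 𝟙 K₀ =
      e.inv ≫ (phi R a' • 𝟙 (Q.obj (Q.objPreimage K₀))) ≫ e.hom := by
    rw [Linear.smul_comp, Linear.comp_smul, Category.id_comp, e.inv_hom_id]
  rw [h3, Functor.map_comp, Functor.map_comp, key, Linear.smul_comp, Linear.comp_smul,
    Category.id_comp, ← Functor.map_comp, e.inv_hom_id, CategoryTheory.Functor.map_id]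

lemma tildeD_map_smul {E₀ K₀ : DerivedCategory (ModuleCat.{u} R)} (ψ : E₀ ⟶ K₀) (a' : A) :
    (DCoh.tildeD R).map (phi R a' • ψ) = a' • (DCoh.tildeD R).map ψ := by
  have h : phi R a' • ψ = (phi R a' • 𝟙 E₀) ≫ ψ := by rw [Linear.smul_comp, Category.id_comp]
  rw [h, Functor.map_comp, tildeD_map_smul_id, Linear.smul_comp, Category.id_comp]

end Tilde

section Main

variable (A : Type u) [CommRing A] (a : A)

/-- the torsion property, for a given structure morphism. -/
def PT (W : Scheme.{u}) [W.Over (Spec (CommRingCat.of A))] : Prop :=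
  ∀ (E E' : DCoh.D W), DCoh.IsPerfect E → DCoh.IsQCohD E' →
    SC (Coh.toGlobal (W ↘ Spec (CommRingCat.of A)) a) E' →
      ∀ α : E ⟶ E', ∃ n : ℕ, a ^ n • α = 0

/-- the torsion property, for all structure morphisms. -/
def QT (W : Scheme.{u}) : Prop :=
  ∀ inst : W.Over (Spec (CommRingCat.of A)), @PT A _ a W inst

theorem QT_affine (R : CommRingCat.{u}) : QT A a (Spec (CommRingCat.of R)) := by
  intro inst
  letI := inst
  intro E E' hE hE' hs α
  haveI : PreservesFiniteLimits (tilde.functor R) :=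
    Groth.Agent.H5.AG.tilde_preservesFiniteLimits _
  obtain ⟨hfull, hfaith, hess⟩ := Groth.Agent.Helper7.QB2.s0997 R
  obtain ⟨E₀, ⟨eE⟩⟩ := (hess E).mp (Groth.Agent.Helper7.QB14.isQCohD_of_isPerfect E hE)
  obtain ⟨K₀, ⟨eK⟩⟩ := (hess E').mp hE'
  have hE₀ : DRing.IsPerfect R E₀ :=
    (Groth.Agent.H4.TilD4.S1105 R E₀).mp (Groth.Agent.H4.PSch5.isPerfect_of_iso eE.symm hE)
  have hK₀ : TorsCoh R (phi R a) K₀ := by
    intro j x
    apply exists_pow_smul_eq_zero_of_support R (phi R a)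
    intro p hp
    have h1 := (nontrivial_stalk_tildeD R K₀ p j).mpr hp
    have h2 : (show ↥(Spec (CommRingCat.of R)) from p) ∈
        CohB1.support (DCoh.HD ((DCoh.tildeD R).obj K₀) j) :=
      not_subsingleton_iff_nontrivial.mpr h1
    have h3 := support_subset_of_iso ((homologyFunctor _ j).mapIso eK) h2
    have h4 := hs j h3
    rw [Scheme.mem_zeroLocus_iff] at h4
    have h5 := h4 _ rfl
    by_contra hcon
    apply h5
    rw [basicOpen_eq_of_affine']
    exact hcon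
  obtain ⟨ψ, hψ⟩ := (DCoh.tildeD R).map_surjective (eE.hom ≫ α ≫ eK.inv)
  obtain ⟨n, hn⟩ := exists_pow_smul_eq_zero R (phi R a) E₀ hE₀ K₀ hK₀ ψ
  refine ⟨n, ?_⟩
  have h6 : (DCoh.tildeD R).map (phi R (a ^ n) • ψ) = a ^ n • (DCoh.tildeD R).map ψ :=
    tildeD_map_smul R ψ (a ^ n)
  rw [map_pow, hn, Functor.map_zero, hψ] at h6
  have h7 : a ^ n • α = eE.inv ≫ (a ^ n • (eE.hom ≫ α ≫ eK.inv)) ≫ eK.hom := by
    rw [Linear.smul_comp, Linear.comp_smul]
    simp
  rw [h7, ← h6, zero_comp, comp_zero]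

theorem QT_of_iso {W₁ W₂ : Scheme.{u}} (e : W₁ ≅ W₂) (h : QT A a W₁) : QT A a W₂ := by
  intro inst₂
  letI := inst₂
  letI inst₁ : W₁.Over (Spec (CommRingCat.of A)) :=
    ⟨e.hom ≫ (W₂ ↘ Spec (CommRingCat.of A))⟩
  haveI : (Scheme.Modules.restrictFunctor e.hom).Linear A := linear_restrictFunctor e.hom rfl
  intro E E' hE hE' hs α
  obtain ⟨n, hn⟩ := h inst₁ ((RD e.hom).obj E) ((RD e.hom).obj E')
    (Groth.Agent.LD.PerfDesc.isPerfect_RD e.hom E hE)
    (Groth.Agent.Helper7.QB3.isQCohD_RD e.hom E' hE')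
    (SC_RD e.hom _ E' hs) ((RD e.hom).map α)
  refine ⟨n, ?_⟩
  apply eq_zero_of_RD_iso_map_eq_zero e
  rw [Functor.map_smul]
  exact hn

section MV

attribute [local instance] Groth.Agent.LD.ExtZeroGen.preservesFiniteLimits_extZero

lemma comp_eq_zero_of_map_eq_zero {U X : Scheme.{u}} (j : U ⟶ X) [IsOpenImmersion j]
    {K : DCoh.D U} {L L' : DCoh.D X} (g : (CxOX.extZeroD j).obj K ⟶ L) (β : L ⟶ L')
    (h : (RD j).map β = 0) : g ≫ β = 0 := by
  let adj : CxOX.extZeroD j ⊣ DCoh.restrictD j := mapDerivedCategoryAdj (CxOX.extZeroAdj j)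
  apply (adj.homEquiv _ _).injective
  rw [adj.homEquiv_naturality_right, h, comp_zero, adj.homEquiv_unit, Functor.map_zero,
    comp_zero]

variable {A} in
lemma smul_eq_zero_of_homEquiv {U X : Scheme.{u}} [U.Over (Spec (CommRingCat.of A))]
    [X.Over (Spec (CommRingCat.of A))] (j : U ⟶ X) [IsOpenImmersion j]
    [(Scheme.Modules.restrictFunctor j).Linear A]
    {K : DCoh.D U} {L : DCoh.D X} (g : (CxOX.extZeroD j).obj K ⟶ L) (c : A)
    (h : c • ((mapDerivedCategoryAdj (CxOX.extZeroAdj j)).homEquiv _ _ g) = 0) :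
    c • g = 0 := by
  let adj : CxOX.extZeroD j ⊣ DCoh.restrictD j := mapDerivedCategoryAdj (CxOX.extZeroAdj j)
  apply (adj.homEquiv _ _).injective
  rw [adj.homEquiv_unit, Functor.map_smul, Linear.comp_smul, ← adj.homEquiv_unit]
  rw [h, adj.homEquiv_unit, Functor.map_zero, comp_zero]

theorem QT_mv {Y : Scheme.{u}} (U V : Y.Opens) (hUV : U ⊔ V = ⊤)
    (hU : QT A a (U : Scheme.{u})) (hV : QT A a (V : Scheme.{u}))
    (hW : QT A a ((U ⊓ V : Y.Opens) : Scheme.{u})) : QT A a Y := by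
  intro inst
  letI := inst
  haveI : (Scheme.Modules.restrictFunctor U.ι).Linear A := linear_restrictFunctor U.ι rfl
  haveI : (Scheme.Modules.restrictFunctor V.ι).Linear A := linear_restrictFunctor V.ι rfl
  haveI : (Scheme.Modules.restrictFunctor (U ⊓ V).ι).Linear A :=
    linear_restrictFunctor (U ⊓ V).ι rfl
  intro E E' hE hE' hs α
  obtain ⟨nU, hnU⟩ := hU inferInstance ((RD U.ι).obj E) ((RD U.ι).obj E')
    (Groth.Agent.LD.PerfDesc.isPerfect_RD U.ι E hE)
    (Groth.Agent.Helper7.QB3.isQCohD_RD U.ι E' hE') (SC_RD U.ι _ E' hs) ((RD U.ι).map α)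
  obtain ⟨nV, hnV⟩ := hV inferInstance ((RD V.ι).obj E) ((RD V.ι).obj E')
    (Groth.Agent.LD.PerfDesc.isPerfect_RD V.ι E hE)
    (Groth.Agent.Helper7.QB3.isQCohD_RD V.ι E' hE') (SC_RD V.ι _ E' hs) ((RD V.ι).map α)
  have hβU : (RD U.ι).map (a ^ (nV + nU) • α) = 0 := by
    rw [Functor.map_smul, pow_add, mul_smul, hnU, smul_zero]
  have hβV : (RD V.ι).map (a ^ (nV + nU) • α) = 0 := by
    rw [Functor.map_smul, pow_add, mul_comm (a ^ nV), mul_smul, hnV, smul_zero]
  obtain ⟨aa, b, c, hT⟩ := Groth.Agent.LD.MV.exists_mv_triangle U V hUV E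
  have hb : b ≫ (a ^ (nV + nU) • α) = 0 := by
    apply biprod.hom_ext'
    · rw [comp_zero, ← Category.assoc]
      exact comp_eq_zero_of_map_eq_zero U.ι _ _ hβU
    · rw [comp_zero, ← Category.assoc]
      exact comp_eq_zero_of_map_eq_zero V.ι _ _ hβV
  obtain ⟨ψ, hψ⟩ : ∃ ψ : ((CxOX.extZeroD (U ⊓ V).ι).obj
      ((DCoh.restrictD (U ⊓ V).ι).obj E))⟦(1 : ℤ)⟧ ⟶ E', a ^ (nV + nU) • α = c ≫ ψ :=
    Triangle.yoneda_exact₃ _ hT (a ^ (nV + nU) • α) hb
  let ι1 : (CxOX.extZeroD (U ⊓ V).ι).obj (((RD (U ⊓ V).ι).obj E)⟦(1 : ℤ)⟧) ≅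
      ((CxOX.extZeroD (U ⊓ V).ι).obj ((RD (U ⊓ V).ι).obj E))⟦(1 : ℤ)⟧ :=
    ((CxOX.extZeroD (U ⊓ V).ι).commShiftIso (1 : ℤ)).app ((RD (U ⊓ V).ι).obj E)
  obtain ⟨m, hm⟩ := hW inferInstance (((RD (U ⊓ V).ι).obj E)⟦(1 : ℤ)⟧)
    ((RD (U ⊓ V).ι).obj E')
    (Groth.Agent.H4.PSch5.isPerfect_shift _ 1
      (Groth.Agent.LD.PerfDesc.isPerfect_RD (U ⊓ V).ι E hE))
    (Groth.Agent.Helper7.QB3.isQCohD_RD (U ⊓ V).ι E' hE') (SC_RD (U ⊓ V).ι _ E' hs)
    ((mapDerivedCategoryAdj (CxOX.extZeroAdj (U ⊓ V).ι)).homEquiv _ _ (ι1.hom ≫ ψ))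
  have h1 : a ^ m • (ι1.hom ≫ ψ) = 0 := smul_eq_zero_of_homEquiv (U ⊓ V).ι _ (a ^ m) hm
  have h2 : a ^ m • ψ = 0 := by
    rw [← Linear.comp_smul] at h1
    exact (cancel_epi ι1.hom).mp (h1.trans comp_zero.symm)
  have h3 : a ^ m • (c ≫ ψ) = 0 := by rw [← Linear.comp_smul, h2, comp_zero]
  refine ⟨m + (nV + nU), ?_⟩
  rw [pow_add, mul_smul, hψ]
  exact h3

end MV

theorem QT_of_qcqs (X : Scheme.{u}) [CompactSpace X] [QuasiSeparatedSpace X] : QT A a X :=
  scheme_mv_induction (QT A a) (fun _ _ e h => QT_of_iso A a e h)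
    (fun _ U V hUV hU hV hW => QT_mv A a U V hUV hU hV hW) (QT_affine A a) X

/-- **S7276**. -/
theorem s7276 (X : Scheme.{u})
    [X.Over (Spec (CommRingCat.of A))] [CompactSpace ↥X] [QuasiSeparatedSpace ↥X]
    {E E' : DCoh.D X} (hE : DCoh.IsPerfect E) (hE'q : DCoh.IsQCohD E')
    (hsupp : ∀ i : ℤ, CohB1.support (DCoh.HD E' i) ⊆
      (X.zeroLocus (U := ⊤) {Coh.toGlobal (X ↘ Spec (CommRingCat.of A)) a} : Set X))
    (α : E ⟶ E') : ∃ n : ℕ, (a ^ n) • α = 0 :=
  QT_of_qcqs A a X inferInstance E E' hE hE'q hsupp α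

end Main

end Groth.Agent.LD.HomVan
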