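import Mathlib
import Groth.Agent.Lib.Lead.Perf.Approx1
import Groth.Agent.Lib.Lead.Perf.HomVan7
import Groth.Agent.H4.TilD11
import Groth.Agent.H4.TilD9
import Groth.Agent.H4.TilD4
import Groth.Agent.H4.RPC7

/-! # Approximation by perfect complexes supported on `V(f₁, …, f_r)` on affine schemes (S7261)

Transfer of the ring-level statement (`Approx1`) along `M ↦ M~` to `Spec R`, and then along the
isomorphism `X ≅ Spec Γ(X, O_X)` to an arbitrary affine scheme. -/

set_option autoImplicit false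
universe u
open CategoryTheory Limits Opposite Pretriangulated Triangulated AlgebraicGeometry TopologicalSpace

namespace Groth.Agent.LD.Approx

open DerivedCategory Groth.Agent.H4 Groth.Agent.H4.PSch2 Groth.Agent.LD.HomVan

attribute [local instance] HasDerivedCategory.standard

/-- the statement for a scheme `W` (list form). -/
def AP (W : Scheme.{u}) : Prop :=
  ∀ (l : List Γ(W, ⊤)) (m : ℤ) (E : DCoh.D W), DCoh.IsQCohD E → DCoh.IsPseudoCoherentD m E →
    (∀ i : ℤ, m - (l.length : ℤ) + 1 ≤ i →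
      CohB1.support (DCoh.HD E i) ⊆ W.zeroLocus (U := ⊤) {a | a ∈ l}) →
    ∃ (P : DCoh.D W) (α : P ⟶ E), DCoh.IsPerfect P ∧
      (∀ i : ℤ, CohB1.support (DCoh.HD P i) ⊆ W.zeroLocus (U := ⊤) {a | a ∈ l}) ∧
      TilD9.IsWitD m α

lemma support_RD_list {U Y : Scheme.{u}} (j : U ⟶ Y) [IsOpenImmersion j] (l : List Γ(Y, ⊤))
    (L : DCoh.D Y) (i : ℤ)
    (hL : CohB1.support (DCoh.HD L i) ⊆ Y.zeroLocus (U := ⊤) {a | a ∈ l}) :
    CohB1.support (DCoh.HD ((RD j).obj L) i) ⊆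
      U.zeroLocus (U := ⊤) {a | a ∈ l.map j.appTop.hom} := by
  intro y hy
  have h1 : y ∈ CohB1.support ((DCoh.HD L i).restrict j) :=
    support_subset_of_iso ((TilD9.mapDerivedCategoryHomologyIso
      (Scheme.Modules.restrictFunctor j) i).app L) hy
  have h2 : j y ∈ CohB1.support (DCoh.HD L i) :=
    (Groth.Agent.LD.QC.mem_support_restrict_iff j _ y).mp h1
  have h3 := hL h2
  rw [Scheme.mem_zeroLocus_iff] at h3 ⊢
  intro f hf
  have hf' : f ∈ l.map j.appTop.hom := hf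
  obtain ⟨ρ, hρ, rfl⟩ := List.mem_map.1 hf'
  have h4 := h3 ρ hρ
  intro h5
  apply h4
  have h6 : y ∈ j ⁻¹ᵁ (Y.basicOpen ρ) := by
    rw [Scheme.preimage_basicOpen_top]
    exact h5
  exact h6

theorem AP_spec (R : CommRingCat.{u}) : AP (Spec (CommRingCat.of R)) := by
  intro l m E hq hpc hs
  haveI : PreservesFiniteLimits (tilde.functor R) :=
    Groth.Agent.H5.AG.tilde_preservesFiniteLimits _
  haveI : PreservesFiniteColimits (tilde.functor R) := by
    haveI : (tilde.functor R).IsLeftAdjoint := tilde.adjunction.isLeftAdjoint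
    infer_instance
  obtain ⟨hfull, hfaith, hess⟩ := Groth.Agent.Helper7.QB2.s0997 R
  obtain ⟨N, ⟨eN⟩⟩ := (hess E).mp hq
  let γ : Γ(Spec (CommRingCat.of R), ⊤) →+* R := (Scheme.ΓSpecIso (CommRingCat.of R)).hom.hom
  have hN : Hyp (l.map γ) m N := by
    refine ⟨(TilD11.S1004 R N m).mp (TilD11.isPseudoCoherentD_of_iso eN.symm hpc), ?_⟩
    intro g₀ hg₀ i hi x
    obtain ⟨g, hg, rfl⟩ := List.mem_map.1 hg₀
    rw [List.length_map] at hi
    apply exists_pow_smul_eq_zero_of_support R (γ g)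
    intro p hp
    have h1 := (nontrivial_stalk_tildeD R N p i).mpr hp
    have h2 : (show ↥(Spec (CommRingCat.of R)) from p) ∈
        CohB1.support (DCoh.HD ((DCoh.tildeD R).obj N) i) :=
      not_subsingleton_iff_nontrivial.mpr h1
    have h3 := support_subset_of_iso ((homologyFunctor _ i).mapIso eN) h2
    have h4 := hs i hi h3
    rw [Scheme.mem_zeroLocus_iff] at h4
    have h5 := h4 g hg
    by_contra hcon
    apply h5
    rw [basicOpen_eq_of_affine']
    exact hcon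
  obtain ⟨P₀, α₀, hperf, htors, hwit⟩ := ring_approx (l.map γ) m N hN
  refine ⟨(DCoh.tildeD R).obj P₀, 𝟙 _ ≫ (DCoh.tildeD R).map α₀ ≫ eN.hom,
    (TilD4.S1105 R P₀).mpr hperf, ?_, ?_⟩
  · intro i x hx
    have h1 : Nontrivial ((DCoh.HD ((DCoh.tildeD R).obj P₀) i).presheaf.stalk x) :=
      not_subsingleton_iff_nontrivial.mp hx
    have h2 := (nontrivial_stalk_tildeD R P₀ x i).mp h1
    obtain ⟨y, hy⟩ := Module.mem_support_iff_exists_annihilator.mp h2
    rw [Scheme.mem_zeroLocus_iff]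
    intro f hf
    have hf' : f ∈ l := hf
    obtain ⟨k, hk⟩ := htors (γ f) (List.mem_map.2 ⟨f, hf', rfl⟩) i y
    have h3 : (γ f) ^ k ∈ (Submodule.span R {y}).annihilator :=
      (Submodule.mem_annihilator_span_singleton y ((γ f) ^ k)).mpr hk
    have h4 : γ f ∈ (show PrimeSpectrum R from x).asIdeal :=
      (show PrimeSpectrum R from x).isPrime.mem_of_pow_mem k (hy h3)
    rw [basicOpen_eq_of_affine']
    intro h5
    exact h5 h4
  · exact (TilD9.isWitD_iso_comp (𝟙 _) ((DCoh.tildeD R).map α₀) eN.hom).mpr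
      (TilD9.IsWitD.map (tilde.functor R) hwit)

theorem AP_of_iso {W₁ W₂ : Scheme.{u}} (e : W₁ ≅ W₂) (h : AP W₁) : AP W₂ := by
  intro l m E hq hpc hs
  obtain ⟨P₁, α₁, hperf, hsupp, hwit⟩ := h (l.map e.hom.appTop.hom) m ((RD e.hom).obj E)
    (Groth.Agent.Helper7.QB3.isQCohD_RD e.hom E hq)
    (Groth.Agent.H4.RPC7.isPseudoCoherentD_RD e.hom E hpc)
    (fun i hi => support_RD_list e.hom l E i (hs i (by rwa [List.length_map] at hi)))
  haveI := isIso_adjIso_unit_app e E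
  have hcomp : ∀ f : Γ(W₂, ⊤), e.inv.appTop.hom (e.hom.appTop.hom f) = f := by
    intro f
    have h1 : e.hom.appTop ≫ e.inv.appTop = 𝟙 _ := by
      rw [← Scheme.Hom.comp_appTop, e.inv_hom_id, Scheme.Hom.id_appTop]
    exact congrArg (fun φ => φ.hom f) h1
  have hl : (l.map e.hom.appTop.hom).map e.inv.appTop.hom = l := by
    rw [List.map_map]
    conv_rhs => rw [← List.map_id l]
    exact List.map_congr_left (fun f _ => hcomp f)
  refine ⟨(RD e.inv).obj P₁, 𝟙 _ ≫ (RD e.inv).map α₁ ≫ inv ((adjIso e).unit.app E),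
    Groth.Agent.LD.PerfDesc.isPerfect_RD e.inv P₁ hperf, ?_, ?_⟩
  · intro i
    have h1 := support_RD_list e.inv (l.map e.hom.appTop.hom) P₁ i (hsupp i)
    rwa [hl] at h1
  · exact (TilD9.isWitD_iso_comp (𝟙 _) ((RD e.inv).map α₁) (inv ((adjIso e).unit.app E))).mpr
      (TilD9.IsWitD.map (Scheme.Modules.restrictFunctor e.inv) hwit)

theorem AP_affine (X : Scheme.{u}) [IsAffine X] : AP X :=
  AP_of_iso X.isoSpec.symm (AP_spec Γ(X, ⊤))

/-- **S7261**. -/
theorem s7261 (X : Scheme.{u}) [IsAffine X] (fs : Finset Γ(X, ⊤))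
    (m : ℤ) (E : DCoh.D X) (hq : DCoh.IsQCohD E) (hpc : DCoh.IsPseudoCoherentD m E)
    (hsupp : ∀ i : ℤ, m - (fs.card : ℤ) + 1 ≤ i →
      CohB1.support (DCoh.HD E i) ⊆ X.zeroLocus (U := ⊤) (↑fs : Set Γ(X, ⊤))) :
    ∃ (P : DCoh.D X) (α : P ⟶ E), DCoh.IsPerfect P ∧
      (∀ i : ℤ, CohB1.support (DCoh.HD P i) ⊆ X.zeroLocus (U := ⊤) (↑fs : Set Γ(X, ⊤))) ∧
      (∀ i : ℤ, m < i → IsIso ((DerivedCategory.homologyFunctor X.Modules i).map α)) ∧
      Epi ((DerivedCategory.homologyFunctor X.Modules m).map α) := by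
  have hset : {a | a ∈ fs.toList} = (↑fs : Set Γ(X, ⊤)) := by
    ext a
    simp
  obtain ⟨P, α, hP, hs, hw⟩ := AP_affine X fs.toList m E hq hpc (fun i hi => by
    rw [hset]
    exact hsupp i (by rwa [Finset.length_toList] at hi))
  refine ⟨P, α, hP, fun i => ?_, hw.1, hw.2⟩
  have h1 := hs i
  rwa [hset] at h1

end Groth.Agent.LD.Approx
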