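import Groth.Agent.Lib.Helper6.RFTri9
import Groth.Agent.Lib.Helper6.RFTri6
import Groth.Agent.Lib.Helper6.RpRes1
import Groth.Agent.Lib.Helper6.QcVan5
import Groth.Agent.H4.PCS5
import Groth.Agent.H4.PCS8
import Groth.Agent.H4.CohPC1
import Groth.Agent.Lib.Lead.QCGroth

/-! # `Rf_*` of pseudo-coherent objects from the bounded case (S11122)

Truncate `F` at a low level `N`: `τ_{<N}F → F → τ_{≥N}F`.  The right piece is bounded and
`(m-k)`-pseudo-coherent, so the hypothesis applies; the left piece is pushed into `D^{≤ m-1}` by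
the uniform vanishing bound of helper6 (`QcVan.exists_vanishing_bound`), hence its direct image is
trivially `m`-pseudo-coherent.  Two-out-of-three (helper4 `S0889`) on the image triangle
(helper6 `exists_distTriang_RF'`) concludes. -/

set_option autoImplicit false
universe u
open CategoryTheory CategoryTheory.Limits AlgebraicGeometry DerivedCategory Pretriangulated
attribute [local instance] HasDerivedCategory.standard

namespace Groth.Agent.LD.PCPush

open Groth.Agent.H4.TilD10 Groth.Agent.H4.TilD11 Groth.Agent.H4.PCS4 Groth.Agent.H4.PCS5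
  Groth.Agent.H4.PCS8 Groth.Agent.H4.CohPC1

theorem main {X Y : Scheme.{u}} (f : X ⟶ Y) [QuasiCompact f]
    [QuasiSeparated f] [CompactSpace Y] [DCoh.HasRpush f] (k : ℤ)
    (hK : ∀ (F : DCoh.D X) (n a b : ℤ), F.IsGE a → F.IsLE b → DCoh.IsPseudoCoherentD n F →
      DCoh.IsPseudoCoherentD (n + k) ((DCoh.Rpush f).obj F))
    (F : DCoh.D X) (hF : ∀ m : ℤ, DCoh.IsPseudoCoherentD m F) (m : ℤ) :
    DCoh.IsPseudoCoherentD m ((DCoh.Rpush f).obj F) := by
  haveI : CompactSpace X := QuasiCompact.compactSpace_of_compactSpace f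
  haveI := Groth.Agent.H6.RpRes.hasKInjRes_modules X
  haveI : IsGrothendieckAbelian.{u} X.Modules :=
    Groth.Agent.LD.QCGroth.isGrothendieckAbelian_modules X
  haveI : HasInjectiveResolutions X.Modules := inferInstance
  obtain ⟨D, hD⟩ := Groth.Agent.H6.QcVan.exists_vanishing_bound f
  -- `F` has quasi-coherent cohomology sheaves
  have hFq : DCoh.IsQCohD F := fun i => (S7240 (i - 1) F (hF (i - 1))).1 i (by omega)
  -- `F` is bounded above
  obtain ⟨b, hFb⟩ := isLE_of_pc m F ((isPseudoCoherentD_iff_pcAt m F).1 (hF m))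
  -- the truncation level
  obtain ⟨N, hN1, hN2⟩ : ∃ N : ℤ, N ≤ m - k ∧ N + D ≤ m - 1 := by
    by_cases h : (D : ℤ) + 1 ≤ k
    · exact ⟨m - k, le_refl _, by omega⟩
    · exact ⟨m - 1 - D, by omega, by omega⟩
  obtain ⟨T, hT, hT2, h1z, h3z, h1iso, h3iso⟩ :=
    Groth.Agent.H6.RFTri.exists_trunc_triangle F N
  subst hT2
  -- the left piece `A = τ_{<N}F`
  have hAle : ∀ c : ℤ, N - 1 ≤ c → T.obj₁.IsLE c := fun c hc =>
    (isLE_iff _ c).2 (fun i hi => h1z i (by omega))
  have hApc : ∀ n : ℤ, N ≤ n → DCoh.IsPseudoCoherentD n T.obj₁ := by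
    intro n hn
    haveI : T.obj₁.IsLE (n - 1) := hAle (n - 1) (by omega)
    exact (isPseudoCoherentD_iff_pcAt n T.obj₁).2 (fun x => PCAt.of_isLE n T.obj₁ x)
  have hAq : DCoh.IsQCohD T.obj₁ := by
    intro i
    by_cases hi : i < N
    · obtain ⟨e⟩ := h1iso i hi
      exact Groth.Agent.LD.QC.qc_of_iso e.symm (hFq i)
    · exact Groth.Agent.LD.QC.qc_of_iso ((isZero_zero _).iso (h1z i (by omega)))
        (Groth.Agent.LD.SC.qc_zero _)
  -- the right piece `B = τ_{≥N}F`
  obtain ⟨b', hb1, hb2⟩ : ∃ b' : ℤ, b ≤ b' ∧ N ≤ b' :=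
    ⟨max b N, le_max_left _ _, le_max_right _ _⟩
  have hBle : T.obj₃.IsLE b' := (isLE_iff _ _).2 (fun i hi => by
    obtain ⟨e⟩ := h3iso i (by omega)
    exact IsZero.of_iso (isZero_of_isLE T.obj₂ b i (by omega)) e.symm)
  have hBge : T.obj₃.IsGE N := (isGE_iff _ _).2 (fun i hi => h3z i hi)
  have hBpc : DCoh.IsPseudoCoherentD (m - k) T.obj₃ :=
    (S0889 (m - k) T hT).1 (hApc (m - k + 1) (by omega)) (hF (m - k))
  have hRB : DCoh.IsPseudoCoherentD m ((DCoh.Rpush f).obj T.obj₃) := by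
    have h := hK T.obj₃ (m - k) N b' hBge hBle hBpc
    rwa [sub_add_cancel] at h
  -- the direct image of the left piece lies in `D^{≤ m-1}`
  haveI hRAle : ((DCoh.Rpush f).obj T.obj₁).IsLE (m - 1) := (isLE_iff _ _).2 (fun i hi =>
    hD T.obj₁ hAq (N - 1) (fun q hq => h1z q (by omega)) i (by omega))
  have hRA : DCoh.IsPseudoCoherentD m ((DCoh.Rpush f).obj T.obj₁) :=
    (isPseudoCoherentD_iff_pcAt m _).2 (fun x => PCAt.of_isLE m _ x)
  -- the image triangle
  obtain ⟨T', hT', u₁, u₂, u₃, -, -⟩ :=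
    Groth.Agent.H6.RFTri.exists_distTriang_RF' (Scheme.Modules.pushforward f) T hT
  have h1 : DCoh.IsPseudoCoherentD m T'.obj₁ := isPseudoCoherentD_of_iso u₁.symm hRA
  have h3 : DCoh.IsPseudoCoherentD m T'.obj₃ := isPseudoCoherentD_of_iso u₃.symm hRB
  exact isPseudoCoherentD_of_iso u₂ ((S0889 m T' hT').2.1 h1 h3)

end Groth.Agent.LD.PCPush
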