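import Groth.Agent.Lib.Helper6.RFTri8
import Groth.Agent.Lib.Helper6.RpRes1
import Groth.Agent.Lib.Helper2.RpA2
import Groth.Agent.Lib.Helper5.VA.D1
import Groth.Agent.Lib.Helper5.AG.ProjProper
import Groth.Agent.Lib.Lead.SC.CohDim
import Groth.Agent.Lib.Lead.Cech.ShTerm
import Groth.Agent.Lib.Lead.QCGroth
import Groth.Agent.H4.PCS5

/-! # Cohomological amplitude of `Rf_*` for `P^r_Y → Y`, `Y` affine (S4265)

`P^r_Y` is separated and covered by `r + 1` affine opens, so `R^p f_* G = 0` for `p > r` and `G`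
quasi-coherent (`SC.subsingleton_HH_of_affine_cover`, helper2 `isZero_Rpush_of_subsingleton`).
helper6's dévissage `isZero_homology_RF_of_bounded` then bounds the amplitude of `Rf_* E` for
bounded `E` with quasi-coherent cohomology sheaves. -/

set_option autoImplicit false
universe u
open CategoryTheory CategoryTheory.Limits AlgebraicGeometry DerivedCategory
attribute [local instance] HasDerivedCategory.standard

namespace Groth.Agent.LD.PnAmp

open Groth.Agent.H4.PCS5

/-- `R^p f_* G = 0` for `p > r`, `G` quasi-coherent on `P^r_Y`, `Y` affine. -/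
theorem isZero_Rpush_Pn (Y : Scheme.{u}) [IsAffine Y] (r : ℕ)
    [HasInjectiveResolutions (CohB1.ProjSpaceOver r Y).Modules]
    (G : (CohB1.ProjSpaceOver r Y).Modules) (hG : G.IsQuasicoherent) (p : ℕ) (hp : r + 1 ≤ p) :
    IsZero ((Coh.Rpush (CohB1.ProjSpaceOver.toBase r Y) p).obj G) := by
  haveI := Groth.Agent.H5.AG.isProper_toBase r Y
  haveI : (CohB1.ProjSpaceOver r Y).IsSeparated := ⟨by
    rw [← terminal.comp_from (CohB1.ProjSpaceOver.toBase r Y)]
    infer_instance⟩
  haveI : IsAffineHom (pullback.diagonal (terminal.from (CohB1.ProjSpaceOver r Y))) :=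
    Groth.Agent.LD.CH.isAffineHom_diag_of_isSeparated
  haveI := hG
  classical
  obtain ⟨q, rfl⟩ : ∃ q, p = q + 1 := ⟨p - 1, by omega⟩
  refine Groth.Agent.H2.RpA.isZero_Rpush_of_subsingleton _ G (q + 1) ?_
  refine Groth.Agent.LD.SC.subsingleton_HH_of_affine_cover _ G
    (Finset.univ.image (fun k : Fin (r + 1) =>
      Groth.Agent.H5.VA.chartW (S := Y) (n := r) k)) ?_ ?_ q ?_
  · intro W hW
    obtain ⟨k, -, rfl⟩ := Finset.mem_image.1 hW
    exact Groth.Agent.H5.VA.isAffineOpen_chartW k
  · rw [Finset.sup_image, Finset.sup_univ_eq_iSup]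
    exact Groth.Agent.H5.VA.iSup_chartW
  · refine Finset.card_image_le.trans ?_
    simp only [Finset.card_univ, Fintype.card_fin]
    omega

theorem main (Y : Scheme.{u}) [IsAffine Y] (r : ℕ)
    [DCoh.HasRpush (CohB1.ProjSpaceOver.toBase r Y)]
    (E : DCoh.D (CohB1.ProjSpaceOver r Y)) (hE : ∀ m : ℤ, DCoh.IsPseudoCoherentD m E)
    (a b : ℤ) [E.IsGE b] [E.IsLE a] :
    ((DCoh.Rpush (CohB1.ProjSpaceOver.toBase r Y)).obj E).IsLE (a + r) := by
  haveI := Groth.Agent.H6.RpRes.hasKInjRes_modules (CohB1.ProjSpaceOver r Y)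
  haveI : IsGrothendieckAbelian.{u} (CohB1.ProjSpaceOver r Y).Modules :=
    Groth.Agent.LD.QCGroth.isGrothendieckAbelian_modules _
  haveI : HasInjectiveResolutions (CohB1.ProjSpaceOver r Y).Modules := inferInstance
  haveI : ObjectProperty.IsClosedUnderIsomorphisms
      (fun G : (CohB1.ProjSpaceOver r Y).Modules => G.IsQuasicoherent) :=
    ⟨fun e h => Groth.Agent.LD.QC.qc_of_iso e h⟩
  have key := Groth.Agent.H6.RFTri.isZero_homology_RF_of_bounded
    (Scheme.Modules.pushforward (CohB1.ProjSpaceOver.toBase r Y))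
    (fun G : (CohB1.ProjSpaceOver r Y).Modules => G.IsQuasicoherent) (r + 1)
    (fun G hG p hp => isZero_Rpush_Pn Y r G hG p hp)
    (a - b + 1).toNat E b a (by omega)
    (fun j _ _ => (S7240 (j - 1) E (hE (j - 1))).1 j (by omega))
    (fun i hi => by
      rcases hi with hi | hi
      · exact isZero_of_isGE E b i hi
      · exact isZero_of_isLE E a i hi)
  exact (isLE_iff _ (a + r)).2 (fun i hi => key i (Or.inr (by push_cast; omega)))

end Groth.Agent.LD.PnAmp
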