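import Groth.Agent.Lib.Helper6.RFTri8
import Groth.Agent.H4.CohPC1
import Groth.Agent.H4.RPC19
import Groth.Agent.H4.RPC16
import Groth.Agent.H4.PMor2
import Groth.Agent.Lib.Lead.QC.Devissage

/-! # Proper direct image of relatively pseudo-coherent objects over a Noetherian base (S6222)

Over a (locally) Noetherian base every morphism locally of finite type is pseudo-coherent
(helper4 `PMor2.S1503`), so relative and absolute pseudo-coherence agree (`RPC19.S6207`); on a
Noetherian scheme absolute pseudo-coherence is "coherent cohomology, bounded above"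
(`CohPC1.S1039`), and the proper direct image of `D^b_Coh` is `D^b_Coh` (helper6 `RFTri.s1001`). -/

set_option autoImplicit false
universe u
open CategoryTheory CategoryTheory.Limits AlgebraicGeometry DerivedCategory
attribute [local instance] HasDerivedCategory.standard

namespace Groth.Agent.LD.RelPush

/-- over a locally Noetherian base, relative pseudo-coherence is absolute pseudo-coherence. -/
theorem rel_iff_abs {X S : Scheme.{u}} [IsLocallyNoetherian S] (p : X ⟶ S)
    [LocallyOfFiniteType p] (m : ℤ) (E : DCoh.D X) :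
    DCoh.IsPseudoCoherentD m E ↔ DerSch.IsPseudoCoherentRel p m E :=
  Groth.Agent.H4.RPC19.S6207 p
    ((Groth.Agent.H4.PMor2.isPseudoCoherentMor_iff p).1
      ((Groth.Agent.H4.PMor2.S1503 p).2 inferInstance)).2 m E

theorem isNoetherian_of_finiteType {X S : Scheme.{u}} [IsNoetherian S] (p : X ⟶ S)
    [LocallyOfFiniteType p] [QuasiCompact p] : IsNoetherian X :=
  { toIsLocallyNoetherian := LocallyOfFiniteType.isLocallyNoetherian p
    toCompactSpace := QuasiCompact.compactSpace_of_compactSpace p }

/-- on a Noetherian scheme: relatively pseudo-coherent (all degrees) objects have coherent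
cohomology. -/
theorem isCohD_of_rel {X S : Scheme.{u}} [IsNoetherian S] (p : X ⟶ S)
    [LocallyOfFiniteType p] [QuasiCompact p] (E : DCoh.D X)
    (hE : DerSch.IsPseudoCoherentRelAll p E) : DCoh.IsCohD E := by
  haveI : IsNoetherian X := isNoetherian_of_finiteType p
  have hqc : DCoh.IsQCohD E := Groth.Agent.H4.RPC16.S6235 p E hE
  intro i
  exact ((Groth.Agent.H4.CohPC1.S1039 X E hqc i).1 ((rel_iff_abs p i E).2 (hE i))).1 i le_rfl

/-- on a Noetherian scheme: bounded above with coherent cohomology ⇒ relatively pseudo-coherent. -/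
theorem rel_of_isCohD {Y S : Scheme.{u}} [IsNoetherian S] (q : Y ⟶ S)
    [LocallyOfFiniteType q] [QuasiCompact q] (K : DCoh.D Y) (hK : DCoh.IsCohD K) (c : ℤ)
    (hc : K.IsLE c) : DerSch.IsPseudoCoherentRelAll q K := by
  haveI : IsNoetherian Y := isNoetherian_of_finiteType q
  intro m
  exact (rel_iff_abs q m K).1
    ((Groth.Agent.H4.CohPC1.S1039 Y K (fun i => (hK i).1) m).2 ⟨fun i _ => hK i, c, hc⟩)

theorem s6222 {X Y S : Scheme.{u}} [IsNoetherian S]
    (p : X ⟶ S) (q : Y ⟶ S) [LocallyOfFiniteType p] [QuasiCompact p] [LocallyOfFiniteType q]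
    [QuasiCompact q]
    (f : X ⟶ Y) [IsProper f] (w : f ≫ q = p) [DCoh.HasRpush f] (E : DCoh.D X) (a b : ℤ)
    [E.IsGE a] [E.IsLE b]
    (hE : DerSch.IsPseudoCoherentRelAll p E) :
    (∃ c : ℤ, ((DCoh.Rpush f).obj E).IsLE c) ∧ ((DCoh.Rpush f).obj E).IsGE a ∧
      DerSch.IsPseudoCoherentRelAll q ((DCoh.Rpush f).obj E) := by
  haveI : IsNoetherian Y := isNoetherian_of_finiteType q
  have hcoh : DCoh.IsCohD E := isCohD_of_rel p E hE
  obtain ⟨h1, h2, b', h3⟩ := Groth.Agent.H6.RFTri.s1001 f E a b hcoh
    (fun i => ⟨Groth.Agent.LD.QC.isClosed_support_of_isCoh (hcoh i), inferInstance⟩)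
  exact ⟨⟨b', h3⟩, h2, rel_of_isCohD q _ h1 b' h3⟩

end Groth.Agent.LD.RelPush
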