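import Groth.Agent.Lib.Lead.Perf.RelPush
import Groth.Agent.Lib.Helper6.RpRes1
import Groth.Agent.Lib.Helper7.LR4
import Groth.Agent.H4.RPC17

/-! # Proper direct image of relatively pseudo-coherent objects, locally Noetherian base (S6220)

Localise on the target `Y` over its affine opens `V` (Noetherian schemes): relative
pseudo-coherence glues over open covers (helper4 `RPC17.rel_of_openCover`), `Rf_*` commutes with
restriction to opens (helper6 `RpRes.main`), and on `f⁻¹V → V` we are in the situation of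
`RelPush` (Noetherian, proper). -/

set_option autoImplicit false
universe u
open CategoryTheory CategoryTheory.Limits AlgebraicGeometry DerivedCategory
attribute [local instance] HasDerivedCategory.standard

namespace Groth.Agent.LD.RelPush

open Groth.Agent.H4.PSch2

lemma isGE_RD {X U : Scheme.{u}} (j : U ⟶ X) [IsOpenImmersion j] (C : DCoh.D X) (b : ℤ)
    [C.IsGE b] : ((RD j).obj C).IsGE b := by
  rw [DerivedCategory.isGE_iff]
  intro q hq
  exact IsZero.of_iso ((Scheme.Modules.restrictFunctor j).map_isZero (isZero_of_isGE C b q hq))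
    ((Groth.Agent.H4.TilD9.mapDerivedCategoryHomologyIso (Scheme.Modules.restrictFunctor j) q).app C)

theorem s6220 {X Y S : Scheme.{u}} [IsLocallyNoetherian S]
    (p : X ⟶ S) (q : Y ⟶ S) [LocallyOfFiniteType p] [LocallyOfFiniteType q] (f : X ⟶ Y)
    [IsProper f] (w : f ≫ q = p)
    [DCoh.HasRpush f] (E : DCoh.D X) (a : ℤ) [E.IsGE a]
    (hE : DerSch.IsPseudoCoherentRelAll p E) :
    DerSch.IsPseudoCoherentRelAll q ((DCoh.Rpush f).obj E) := by
  intro m
  refine Groth.Agent.H4.RPC17.rel_of_openCover q m _ (fun V : Y.affineOpens => V.1)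
    (iSup_affineOpens_eq_top Y) (fun V => ?_)
  haveI : IsLocallyNoetherian Y := LocallyOfFiniteType.isLocallyNoetherian q
  haveI : IsLocallyNoetherian X := LocallyOfFiniteType.isLocallyNoetherian p
  haveI : IsAffine V.1.toScheme := V.2
  haveI : IsLocallyNoetherian V.1.toScheme := LocallyOfFiniteType.isLocallyNoetherian V.1.ι
  haveI : IsNoetherian V.1.toScheme :=
    { toIsLocallyNoetherian := inferInstance
      toCompactSpace := inferInstance }
  haveI : DCoh.HasRpush (f ∣_ V.1) := Groth.Agent.Helper7.LR4.hasRpush _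
  obtain ⟨e⟩ := Groth.Agent.H6.RpRes.main f V.1
  haveI : CompactSpace (f ⁻¹ᵁ V.1).toScheme :=
    QuasiCompact.compactSpace_of_compactSpace (f ∣_ V.1)
  haveI : IsLocallyNoetherian (f ⁻¹ᵁ V.1).toScheme :=
    LocallyOfFiniteType.isLocallyNoetherian (f ⁻¹ᵁ V.1).ι
  haveI : IsNoetherian (f ⁻¹ᵁ V.1).toScheme :=
    { toIsLocallyNoetherian := inferInstance
      toCompactSpace := inferInstance }
  have hE' : DerSch.IsPseudoCoherentRelAll ((f ⁻¹ᵁ V.1).ι ≫ p) ((RD (f ⁻¹ᵁ V.1).ι).obj E) :=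
    fun n => Groth.Agent.H4.RPC17.rel_restrict p n E (hE n) _
  have hqc' : DCoh.IsQCohD ((RD (f ⁻¹ᵁ V.1).ι).obj E) :=
    Groth.Agent.H4.RPC16.S6235 _ _ hE'
  have habs : ∀ n : ℤ, DCoh.IsPseudoCoherentD n ((RD (f ⁻¹ᵁ V.1).ι).obj E) :=
    fun n => (rel_iff_abs ((f ⁻¹ᵁ V.1).ι ≫ p) n _).2 (hE' n)
  obtain ⟨b, hb⟩ := ((Groth.Agent.H4.CohPC1.S1039 _ _ hqc' 0).1 (habs 0)).2
  have hcoh : DCoh.IsCohD ((RD (f ⁻¹ᵁ V.1).ι).obj E) :=
    fun i => ((Groth.Agent.H4.CohPC1.S1039 _ _ hqc' i).1 (habs i)).1 i le_rfl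
  haveI := hb
  haveI : ((RD (f ⁻¹ᵁ V.1).ι).obj E).IsGE a := isGE_RD _ E a
  obtain ⟨h1, h2, b', h3⟩ := Groth.Agent.H6.RFTri.s1001 (f ∣_ V.1)
    ((RD (f ⁻¹ᵁ V.1).ι).obj E) a b hcoh
    (fun i => ⟨Groth.Agent.LD.QC.isClosed_support_of_isCoh (hcoh i), inferInstance⟩)
  have hpc : DCoh.IsPseudoCoherentD m
      ((DCoh.Rpush (f ∣_ V.1)).obj ((RD (f ⁻¹ᵁ V.1).ι).obj E)) :=
    (Groth.Agent.H4.CohPC1.S1039 _ _ (fun i => (h1 i).1) m).2 ⟨fun i _ => h1 i, b', h3⟩
  have hrel := (rel_iff_abs (V.1.ι ≫ q) m _).1 hpc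
  exact Groth.Agent.H4.RPC17.rel_of_iso (V.1.ι ≫ q) (e.app E).symm hrel

end Groth.Agent.LD.RelPush
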